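import Cfsg.Agent.Lib.HalfFixed23.Orbits
import Cfsg.Agent.Lib.RegOrbit23.Avoid

/-!
# Two conjugate elements with complementary fixed spaces: no imprimitivity
-/

set_option autoImplicit false
set_option linter.unusedSectionVars false

namespace Cfsg.Agent.HalfFixed23

open Pointwise RegOrbit23

variable {G V : Type*} [Group G] [Finite G] [CommGroup V] [Finite V] [MulDistribMulAction G V]

/-- Two conjugate elements of order dividing `p` generating an irreducible solvable group, with
complementary fixed point subgroups. -/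
structure HalfPair (G V : Type*) [Group G] [CommGroup V] [MulDistribMulAction G V] (x y : G)
    (p : ℕ) : Prop where
  solv : Group.IsSolvable G
  faith : ∀ g : G, (∀ v : V, g • v = v) → g = 1
  irr : ∀ X : Subgroup V, (∀ g : G, ∀ v ∈ X, g • v ∈ X) → X = ⊥ ∨ X = ⊤
  gen : Subgroup.closure {x, y} = ⊤
  conj : ∃ g, g * x * g⁻¹ = y
  pow : x ^ p = 1
  cap : ∀ v : V, x • v = v → y • v = v → v = 1
  prod : ∀ v : V, ∃ a b : V, x • a = a ∧ y • b = b ∧ a * b = v

/-- The fixed points of one element. -/
def fx (V : Type*) [CommGroup V] [MulDistribMulAction G V] (g : G) : Subgroup V :=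
  fixedSub V ({g} : Set G)

theorem mem_fx {g : G} {v : V} : v ∈ fx V g ↔ g • v = v :=
  ⟨fun h => h g rfl, fun h b hb => by rwa [Set.mem_singleton_iff.mp hb]⟩

theorem HalfPair.eq_top_of_mem {x y : G} {p : ℕ} (h : HalfPair G V x y p) (N : Subgroup G)
    [hN : N.Normal] (hx : x ∈ N) : N = ⊤ := by
  obtain ⟨g, hg⟩ := h.conj
  rw [eq_top_iff, ← h.gen, Subgroup.closure_le]
  rintro z (rfl | rfl)
  · exact hx
  · exact hg ▸ hN.conj_mem x hx g

theorem HalfPair.x_ne_one [Nontrivial V] {x y : G} {p : ℕ} (h : HalfPair G V x y p) : x ≠ 1 := by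
  rintro rfl
  obtain ⟨g, hg⟩ := h.conj
  obtain ⟨v, hv⟩ := exists_ne (1 : V)
  exact hv (h.cap v (one_smul _ v) (by rw [← hg, mul_one, mul_inv_cancel, one_smul]))

theorem HalfPair.card_fix {x y : G} {p : ℕ} (h : HalfPair G V x y p) :
    Nat.card (fx V x) * Nat.card (fx V x) = Nat.card V := by
  obtain ⟨g, hg⟩ := h.conj
  have e : Nat.card (fx V x) = Nat.card (fx V y) := by
    refine Nat.card_congr
      { toFun := fun v => ⟨g • (v : V), mem_fx.mpr ?_⟩
        invFun := fun v => ⟨g⁻¹ • (v : V), mem_fx.mpr ?_⟩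
        left_inv := fun v => Subtype.ext (inv_smul_smul g (v : V))
        right_inv := fun v => Subtype.ext (smul_inv_smul g (v : V)) }
    · rw [← hg, mul_smul, mul_smul, inv_smul_smul, mem_fx.mp v.2]
    · have := mem_fx.mp v.2
      generalize (v : V) = w at this ⊢
      rwa [← hg, mul_smul, mul_smul, ← eq_inv_smul_iff] at this
  conv_lhs => arg 2; rw [e]
  rw [← Nat.card_prod]
  refine Nat.card_congr (Equiv.ofBijective (fun u => (u.1 : V) * u.2) ⟨?_, fun v => ?_⟩)
  · rintro ⟨a, b⟩ ⟨a', b'⟩ hab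
    have h1 : (a : V) * (a' : V)⁻¹ = b' * (b : V)⁻¹ := by
      rw [eq_mul_inv_iff_mul_eq, mul_right_comm, mul_inv_eq_iff_eq_mul, mul_comm (b' : V)]
      exact hab
    have h2 : (a : V) * (a' : V)⁻¹ = 1 := h.cap _ (mem_fx.mp (mul_mem a.2 (inv_mem a'.2)))
      (h1 ▸ mem_fx.mp (mul_mem b'.2 (inv_mem b.2)))
    rw [h2, eq_comm, mul_inv_eq_one] at h1
    exact Prod.ext (Subtype.ext (mul_inv_eq_one.mp h2)) (Subtype.ext h1.symm)
  · obtain ⟨a, b, ha, hb, hab⟩ := h.prod v
    exact ⟨(⟨a, mem_fx.mpr ha⟩, ⟨b, mem_fx.mpr hb⟩), hab⟩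

/-- Coordinates with respect to a block. -/
theorem exists_coords (hirr : ∀ X : Subgroup V, (∀ g : G, ∀ v ∈ X, g • v ∈ X) → X = ⊥ ∨ X = ⊤)
    (W : Subgroup V) (hW : IsBlock G W) [Fintype (G ⧸ MulAction.stabilizer G W)] :
    Function.Bijective (fun f : G ⧸ MulAction.stabilizer G W → W =>
      ∏ q, q.out • (f q : V)) := by
  classical
  let Ψ : (G ⧸ MulAction.stabilizer G W → W) →* V :=
    { toFun := fun f => ∏ q, q.out • (f q : V)
      map_one' := Finset.prod_eq_one fun q _ => by simp
      map_mul' := fun f f' => by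
        rw [← Finset.prod_mul_distrib]
        exact Finset.prod_congr rfl fun q _ => smul_mul' _ _ _ }
  have hblk : Function.Injective (fun q : G ⧸ MulAction.stabilizer G W => q.out • W) := by
    intro q q' h
    rw [← QuotientGroup.out_eq' q, ← QuotientGroup.out_eq' q']
    refine QuotientGroup.eq.mpr ?_
    show (q.out⁻¹ * q'.out) • W = W
    rw [mul_smul, inv_smul_eq_iff]
    exact h.symm
  refine ⟨(injective_iff_map_eq_one Ψ).mpr fun f hf => funext fun q => Subtype.ext ?_, ?_⟩
  · have h1 := hW.2 (Finset.univ.image (fun q : G ⧸ MulAction.stabilizer G W => q.out • W))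
      (Function.extend (fun q : G ⧸ MulAction.stabilizer G W => q.out • W)
        (fun q => q.out • (f q : V)) 1)
      (fun B hB => by obtain ⟨r, -, rfl⟩ := Finset.mem_image.mp hB; exact ⟨r.out, rfl⟩)
      (fun B hB => by
        obtain ⟨r, -, rfl⟩ := Finset.mem_image.mp hB
        rw [hblk.extend_apply]
        exact Subgroup.smul_mem_pointwise_smul _ _ _ (f r).2)
      (by
        rw [Finset.prod_image hblk.injOn]
        simp only [hblk.extend_apply]
        exact hf) _ (Finset.mem_image_of_mem _ (Finset.mem_univ q))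
    rw [hblk.extend_apply, smul_eq_one'] at h1
    exact h1
  · have hgen : ∀ (q : G ⧸ MulAction.stabilizer G W) (w : W), q.out • (w : V) ∈ Ψ.range := fun q w =>
      ⟨Function.update (1 : G ⧸ MulAction.stabilizer G W → W) q w, by
        show ∏ r, r.out • ((Function.update (1 : G ⧸ MulAction.stabilizer G W → W) q w r : W) : V) = _
        rw [Finset.prod_eq_single q (fun r _ hr => by simp [hr]) (by simp)]
        simp⟩
    intro v
    have htop : Ψ.range = ⊤ := by
      refine (hirr Ψ.range fun g v hv => ?_).resolve_left fun hb => ?_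
      · obtain ⟨f, rfl⟩ := hv
        show g • ∏ q, q.out • (f q : V) ∈ Ψ.range
        rw [Finset.smul_prod']
        refine Subgroup.prod_mem _ fun q _ => ?_
        set r := g • q
        have hmem : r.out⁻¹ * (g * q.out) ∈ MulAction.stabilizer G W := by
          refine QuotientGroup.eq.mp ?_
          rw [QuotientGroup.out_eq']
          show g • q = g • (QuotientGroup.mk q.out : G ⧸ _)
          rw [QuotientGroup.out_eq']
        have h2 := Subgroup.smul_mem_pointwise_smul (f q : V) (r.out⁻¹ * (g * q.out)) W (f q).2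
        rw [(hmem : (r.out⁻¹ * (g * q.out)) • W = W)] at h2
        have := hgen r ⟨_, h2⟩
        simpa [mul_smul] using this
      · obtain ⟨⟨w, hw⟩, hw1⟩ := Subgroup.ne_bot_iff_exists_ne_one.mp hW.1
        have h2 := hgen (QuotientGroup.mk 1) ⟨w, hw⟩
        rw [hb, Subgroup.mem_bot, smul_eq_one'] at h2
        exact hw1 (Subtype.ext h2)
    exact (htop.ge (Subgroup.mem_top v) : v ∈ Ψ.range)

/-- There is no nontrivial system of imprimitivity. -/
theorem HalfPair.no_block [Nontrivial V] {x y : G} {p : ℕ} [hp : Fact p.Prime] (hp5 : 5 ≤ p)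
    (h : HalfPair G V x y p) {W₁ : Subgroup V} (hW₁ : IsBlock G W₁) : W₁ = ⊤ := by
  classical
  by_contra hne
  obtain ⟨W, ⟨hW, hWtop⟩, hmax⟩ := Set.Finite.exists_maximal
    (s := {W : Subgroup V | IsBlock G W ∧ W ≠ ⊤}) (Set.toFinite _) ⟨W₁, hW₁, hne⟩
  haveI := h.solv
  set K := MulAction.stabilizer G W with hKdef
  haveI : Fintype (G ⧸ K) := Fintype.ofFinite _
  let e := Equiv.ofBijective _ (exists_coords h.irr W hW)
  have hKtop : K ≠ ⊤ := fun hK => by
    rcases h.irr W (fun g v hv => by
      have hg : g • W = W := (hK ▸ Subgroup.mem_top g : g ∈ K)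
      have h1 := Subgroup.smul_mem_pointwise_smul v g W hv
      rwa [hg] at h1) with h1 | h1
    · exact hW.1 h1
    · exact hWtop h1
  have hmem : ∀ (g : G) (r : G ⧸ K), r.out⁻¹ * g * (g⁻¹ • r).out ∈ K := by
    intro g r
    rw [mul_assoc]
    refine QuotientGroup.eq.mp ?_
    rw [QuotientGroup.out_eq']
    show r = g • (QuotientGroup.mk ((g⁻¹ • r).out) : G ⧸ K)
    rw [QuotientGroup.out_eq', smul_inv_smul]
  let T : G → (G ⧸ K → W) → (G ⧸ K → W) := fun g f r =>
    ⟨(r.out⁻¹ * g * (g⁻¹ • r).out) • (f (g⁻¹ • r) : V), by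
      have h1 := Subgroup.smul_mem_pointwise_smul (f (g⁻¹ • r) : V)
        (r.out⁻¹ * g * (g⁻¹ • r).out) W (f (g⁻¹ • r)).2
      rwa [(hmem g r : (r.out⁻¹ * g * (g⁻¹ • r).out) • W = W)] at h1⟩
  have hT : ∀ g f, e (T g f) = g • e f := by
    intro g f
    show ∏ r, r.out • (r.out⁻¹ * g * (g⁻¹ • r).out) • (f (g⁻¹ • r) : V) = g • ∏ q, q.out • (f q : V)
    rw [Finset.smul_prod']
    refine Fintype.prod_equiv (MulAction.toPerm g⁻¹) _ _ fun r => ?_
    simp [← mul_smul, mul_assoc]
  have hcoord : ∀ g v, e.symm (g • v) = T g (e.symm v) := fun g v =>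
    e.injective (by rw [hT, e.apply_symm_apply, e.apply_symm_apply])
  have hKco : IsCoatom K := by
    refine ⟨hKtop, fun L hKL => ?_⟩
    by_contra hL
    let S : Set (G ⧸ K) := {q | q.out ∈ L}
    have hSmk : ∀ a : G, (QuotientGroup.mk a : G ⧸ K) ∈ S ↔ a ∈ L := by
      intro a
      obtain ⟨k, hk⟩ := QuotientGroup.mk_out_eq_mul K a
      show (QuotientGroup.mk a : G ⧸ K).out ∈ L ↔ a ∈ L
      rw [hk]
      exact L.mul_mem_cancel_right (hKL.le k.2)
    let W' : Subgroup V :=
      { carrier := {v | ∀ q, q ∉ S → e.symm v q = 1}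
        one_mem' := fun q _ => by
          have h1 : e.symm 1 = fun _ => 1 := e.injective (by
            rw [e.apply_symm_apply]
            exact (Finset.prod_eq_one fun q _ => by simp).symm)
          rw [h1]
        mul_mem' := fun {a b} ha hb q hq => by
          have h1 : e.symm (a * b) = e.symm a * e.symm b := e.injective (by
            rw [e.apply_symm_apply]
            conv_lhs => rw [← e.apply_symm_apply a, ← e.apply_symm_apply b]
            exact Finset.prod_mul_distrib.symm.trans
              (Finset.prod_congr rfl fun q _ => (smul_mul' _ _ _).symm))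
          rw [h1, Pi.mul_apply, ha q hq, hb q hq, mul_one]
        inv_mem' := fun {a} ha q hq => by
          have h1 : e.symm a⁻¹ = (e.symm a)⁻¹ := e.injective (by
            rw [e.apply_symm_apply]
            conv_lhs => rw [← e.apply_symm_apply a]
            show (∏ q, q.out • (e.symm a q : V))⁻¹ = ∏ q, q.out • (((e.symm a)⁻¹ q : W) : V)
            rw [← Finset.prod_inv_distrib]
            exact Finset.prod_congr rfl fun q _ => (smul_inv' _ _).symm)
          rw [h1, Pi.inv_apply, ha q hq, inv_one] }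
    have hsingle : ∀ (g : G) (v : V), v ∈ W → ∀ q : G ⧸ K, q ≠ QuotientGroup.mk g →
        e.symm (g • v) q = 1 := by
      intro g v hv q hq
      obtain ⟨k, hk⟩ := QuotientGroup.mk_out_eq_mul K g
      have hv' : (k : G)⁻¹ • v ∈ W := by
        have h1 := Subgroup.smul_mem_pointwise_smul v (k : G)⁻¹ W hv
        rwa [(K.inv_mem k.2 : (k : G)⁻¹ • W = W)] at h1
      have h1 : e.symm (g • v) = Function.update (1 : G ⧸ K → W) (QuotientGroup.mk g : G ⧸ K) ⟨_, hv'⟩ := by
        refine e.injective ?_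
        rw [e.apply_symm_apply]
        show g • v = ∏ r, r.out • ((Function.update (1 : G ⧸ K → W) (QuotientGroup.mk g : G ⧸ K) ⟨_, hv'⟩ r : W) : V)
        rw [Finset.prod_eq_single (QuotientGroup.mk g : G ⧸ K) (fun r _ hr => by simp [hr]) (by simp),
          Function.update_self, hk]
        show g • v = (g * k) • (k : G)⁻¹ • v
        rw [← mul_smul, mul_inv_cancel_right]
      rw [h1, Function.update_of_ne hq]
      rfl
    have hWW' : W ≤ W' := fun v hv q hq => by
      have := hsingle 1 v hv q (fun h1 => hq (h1 ▸ (hSmk 1).mpr (one_mem L)))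
      rwa [one_smul] at this
    obtain ⟨l, hl, hlK⟩ := SetLike.exists_of_lt hKL
    have hlW : ∀ v ∈ W, l • v ∈ W' := fun v hv q hq =>
      hsingle l v hv q (fun h1 => hq (h1 ▸ (hSmk l).mpr hl))
    obtain ⟨w, hwW, hw1⟩ : ∃ w ∈ W, w ≠ 1 := by
      obtain ⟨⟨w, hw⟩, hw1⟩ := Subgroup.ne_bot_iff_exists_ne_one.mp hW.1
      exact ⟨w, hw, fun hh => hw1 (Subtype.ext hh)⟩
    have hcoordS : ∀ (g : G) (v : V), v ∈ g • W' → ∀ r, g⁻¹ • r ∉ S → e.symm v r = 1 := by
      intro g v hv r hr
      rw [Subgroup.mem_pointwise_smul_iff_inv_smul_mem] at hv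
      have h1 := hcoord g (g⁻¹ • v)
      rw [smul_inv_smul] at h1
      rw [h1]
      refine Subtype.ext ?_
      show (r.out⁻¹ * g * (g⁻¹ • r).out) • (e.symm (g⁻¹ • v) (g⁻¹ • r) : V) = 1
      rw [hv _ hr, Subgroup.coe_one, smul_one]
    have hSeq : ∀ (g g' : G) (r : G ⧸ K), g⁻¹ • r ∈ S → g'⁻¹ • r ∈ S → g • W' = g' • W' := by
      intro g g' r h1 h2
      obtain ⟨a, rfl⟩ := QuotientGroup.mk_surjective r
      have h1' : g⁻¹ * a ∈ L := (hSmk _).mp h1
      have h2' : g'⁻¹ * a ∈ L := (hSmk _).mp h2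
      have hgg : g⁻¹ * g' ∈ L := by
        have := L.mul_mem h1' (L.inv_mem h2')
        simpa [mul_assoc] using this
      have hfix : ∀ u ∈ L, ∀ v ∈ W', u • v ∈ W' := by
        intro u hu v hv q hq
        rw [hcoord]
        refine Subtype.ext ?_
        show (q.out⁻¹ * u * (u⁻¹ • q).out) • (e.symm v (u⁻¹ • q) : V) = 1
        rw [hv _ (fun h3 => hq ?_), Subgroup.coe_one, smul_one]
        obtain ⟨c, rfl⟩ := QuotientGroup.mk_surjective q
        have h4 : u⁻¹ * c ∈ L := (hSmk _).mp h3
        exact (hSmk c).mpr (by simpa using L.mul_mem hu h4)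
      ext v
      rw [Subgroup.mem_pointwise_smul_iff_inv_smul_mem, Subgroup.mem_pointwise_smul_iff_inv_smul_mem]
      constructor
      · intro hv
        have := hfix _ (L.inv_mem hgg) _ hv
        rwa [← mul_smul, mul_inv_rev, inv_inv, mul_assoc, mul_inv_cancel, mul_one] at this
      · intro hv
        have := hfix _ hgg _ hv
        rwa [← mul_smul, mul_inv_cancel_right] at this
    have hblock : IsBlock G W' := by
      refine ⟨fun hb => hw1 (Subgroup.mem_bot.mp (hb ▸ hWW' hwW)), fun Tf f hTS hf hprod => ?_⟩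
      intro Y hY
      obtain ⟨g, rfl⟩ := hTS Y hY
      have hzero : ∀ r, e.symm (f (g • W')) r = 1 := by
        intro r
        by_cases hr : g⁻¹ • r ∈ S
        swap
        · exact hcoordS g _ (hf _ hY) r hr
        let φ : V →* W :=
          { toFun := fun v => e.symm v r
            map_one' := W'.one_mem |> fun _ => by
              have h1 : e.symm 1 = fun _ => 1 := e.injective (by
                rw [e.apply_symm_apply]
                exact (Finset.prod_eq_one fun q _ => by simp).symm)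
              rw [h1]
            map_mul' := fun a b => by
              have h1 : e.symm (a * b) = e.symm a * e.symm b := e.injective (by
                rw [e.apply_symm_apply]
                conv_lhs => rw [← e.apply_symm_apply a, ← e.apply_symm_apply b]
                exact Finset.prod_mul_distrib.symm.trans
                  (Finset.prod_congr rfl fun q _ => (smul_mul' _ _ _).symm))
              rw [h1]; rfl }
        have h1 := congrArg φ hprod
        rw [map_prod, map_one, Finset.prod_eq_single (g • W')] at h1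
        · exact h1
        · intro Z hZ hZne
          obtain ⟨g', rfl⟩ := hTS Z hZ
          exact hcoordS g' _ (hf _ hZ) r fun hr' => hZne (hSeq g' g r hr' hr)
        · exact fun hh => absurd hY hh
      have h2 : e.symm (f (g • W')) = fun _ => 1 := funext hzero
      rw [← e.apply_symm_apply (f (g • W')), h2]
      exact Finset.prod_eq_one fun q _ => by simp
    have hW'top : W' ≠ ⊤ := by
      obtain ⟨a, -, haL⟩ := SetLike.exists_of_lt (lt_top_iff_ne_top.mpr hL)
      intro htop
      have h1 : (a • w) ∈ W' := htop ▸ Subgroup.mem_top _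
      have h2 := h1 (QuotientGroup.mk a) (fun h3 => haL ((hSmk a).mp h3))
      have h3 : e.symm (a • w) = fun _ => 1 := funext fun q => by
        by_cases hq : q = QuotientGroup.mk a
        · rw [hq]; exact h2
        · exact hsingle a w hwW q hq
      have h4 : a • w = 1 := by
        rw [← e.apply_symm_apply (a • w), h3]
        exact Finset.prod_eq_one fun q _ => by simp
      exact hw1 ((smul_eq_one' a w).mp h4)
    have hle : W' ≤ W := hmax ⟨hblock, hW'top⟩ hWW'
    refine hlK ?_
    show l • W = W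
    by_contra hlne
    refine hw1 ((smul_eq_one' l w).mp (hW.2.inter ⟨l, rfl⟩ ⟨1, one_smul _ _⟩ hlne
      (Subgroup.smul_mem_pointwise_smul _ _ _ hwW) (hle (hlW w hwW))))
  -- counting
  obtain ⟨R, hR, hRcard⟩ := exists_reps (G := G) (α := G ⧸ K) h.pow
  have hfixle := fixed_cosets_le h.pow h.gen h.conj K hKco
  have hinj : Function.Injective (fun v : fx V x => fun r : R => e.symm (v : V) (r : G ⧸ K)) := by
    intro v v' hvv
    refine Subtype.ext (e.symm.injective (funext fun q => ?_))
    obtain ⟨r, hr, i, rfl⟩ := hR q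
    have hstep : ∀ u : fx V x, ∀ q : G ⧸ K, (e.symm (u : V) (x • q) : V) =
        ((x • q).out⁻¹ * x * (x⁻¹ • x • q).out) • (e.symm (u : V) (x⁻¹ • x • q) : V) := by
      intro u q
      conv_lhs => rw [show (u : V) = x • (u : V) from (mem_fx.mp u.2).symm, hcoord]
    induction i with
    | zero => rw [pow_zero, one_smul]; exact congrFun hvv ⟨r, hr⟩
    | succ i ih =>
      rw [pow_succ', mul_smul]
      refine Subtype.ext ?_
      rw [hstep v, hstep v', inv_smul_smul, ih]
  have h1 : Nat.card (fx V x) ≤ Nat.card W ^ R.card := by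
    refine le_trans (Nat.card_le_card_of_injective _ hinj) (le_of_eq ?_)
    rw [Nat.card_fun, Nat.card_eq_fintype_card (α := R), Fintype.card_coe]
  have h2 : Nat.card V = Nat.card W ^ Fintype.card (G ⧸ K) := by
    rw [← Nat.card_congr e, Nat.card_fun, Nat.card_eq_fintype_card (α := G ⧸ K)]
  have h3 : Nat.card W ^ Fintype.card (G ⧸ K) ≤ Nat.card W ^ (2 * R.card) := by
    rw [← h2, ← h.card_fix, two_mul, pow_add]
    exact Nat.mul_le_mul h1 h1
  have hW2 : 2 ≤ Nat.card W := by
    haveI : Nontrivial W := (Subgroup.nontrivial_iff_ne_bot W).mpr hW.1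
    exact Finite.one_lt_card
  have h4 := (Nat.pow_le_pow_iff_right hW2).mp h3
  rw [Subgroup.index_eq_card, Nat.card_eq_fintype_card (α := G ⧸ K)] at hfixle
  set n := Fintype.card (G ⧸ K)
  set c := Nat.card {q : G ⧸ K // x • q = q}
  have hn : 0 < n := Fintype.card_pos
  have h5 : (p - 1) * c ≤ n := (Nat.mul_le_mul_right c (Nat.sub_le p 1)).trans hfixle
  have h6 : 5 * n ≤ p * n := Nat.mul_le_mul_right n hp5
  have h7 : p * n ≤ 2 * (p * R.card) := by
    rw [mul_left_comm]; exact Nat.mul_le_mul_left p h4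
  omega

/-- A normal elementary abelian subgroup is cyclic and acts without fixed points. -/
theorem HalfPair.elementary [Nontrivial V] {x y : G} {p : ℕ} [hp : Fact p.Prime] (hp5 : 5 ≤ p)
    (h : HalfPair G V x y p) {q : ℕ} [hq : Fact q.Prime] (E : Subgroup G) [hEn : E.Normal]
    (hV : (Nat.card V).Coprime q) (hEab : ∀ a ∈ E, ∀ b ∈ E, a * b = b * a)
    (hEexp : ∀ a ∈ E, a ^ q = 1) : IsCyclic E := by
  classical
  by_cases hE1 : E = ⊥
  · rw [hE1]; infer_instance
  have hCE : ∀ v : V, (∀ a ∈ E, a • v = v) → v = 1 := by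
    intro v hv
    rcases h.irr (fixedSub V (E : Set G)) (fun g w hw b hb => by
      have := hw _ (show g⁻¹ * b * g ∈ E by simpa using hEn.conj_mem b hb g⁻¹)
      rwa [mul_smul, mul_smul, inv_smul_eq_iff] at this) with h1 | h1
    · exact Subgroup.mem_bot.mp (h1 ▸ hv)
    · exfalso
      exact hE1 ((Subgroup.eq_bot_iff_forall _).mpr fun a ha =>
        h.faith a fun w => (h1.ge (Subgroup.mem_top w) : w ∈ fixedSub V (E : Set G)) a ha)
  obtain ⟨z, hz, B, hBE, -, hXne, hsplit⟩ := exists_hyperplane_fixed (W := V) hV E hEab hEexp hCE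
  set X := fixedSub V (B : Set G)
  let BB : G → Subgroup G := fun g => B.map (MulAut.conj g).toMonoidHom
  have hBBE : ∀ g, BB g ≤ E := by
    rintro g _ ⟨b, hb, rfl⟩
    exact hEn.conj_mem b (hBE hb) g
  have htrans : ∀ g : G, g • X = fixedSub V (BB g : Set G) := by
    intro g
    ext v
    rw [Subgroup.mem_pointwise_smul_iff_inv_smul_mem]
    constructor
    · rintro hv _ ⟨b, hb, rfl⟩
      simp only [MulEquiv.coe_toMonoidHom, MulAut.conj_apply, mul_smul]
      rw [hv b hb, smul_inv_smul]
    · intro hv b hb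
      have h1 := hv _ ⟨b, hb, rfl⟩
      simp only [MulEquiv.coe_toMonoidHom, MulAut.conj_apply, mul_smul] at h1
      exact smul_left_cancel g (by rw [h1, smul_inv_smul])
  have hblock : IsBlock G X := by
    refine ⟨hXne, fun T f hTS hf hprod Y hY => ?_⟩
    obtain ⟨g₀, rfl⟩ := hTS Y hY
    have h1 := congrArg (normOver (BB g₀)) hprod
    rw [map_prod, map_one, Finset.prod_eq_single (g₀ • X)] at h1
    · have hfx : f (g₀ • X) ∈ g₀ • X := hf _ hY
      rw [htrans] at hfx
      rw [normOver_of_fixed _ (by rwa [htrans] )] at h1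
      refine eq_one_of_pow_eq_one ?_ h1
      obtain ⟨k, hk⟩ := (show IsPGroup q (BB g₀) from fun b => ⟨1, Subtype.ext (by
        simpa using hEexp b (hBBE g₀ b.2))⟩).exists_card_eq
      rw [hk]; exact hV.pow_right k
    · intro Z hZ hne
      obtain ⟨g, rfl⟩ := hTS Z hZ
      obtain ⟨c, hc, hc0⟩ : ∃ c ∈ BB g, c ∉ BB g₀ := by
        by_contra hcon
        push Not at hcon
        have heq : BB g = BB g₀ := Subgroup.eq_of_le_of_card_ge hcon (by
          simp only [BB]
          rw [Subgroup.card_map_of_injective (MulAut.conj g₀).injective,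
            Subgroup.card_map_of_injective (MulAut.conj g).injective])
        exact hne (by show g • X = g₀ • X; rw [htrans, htrans, heq])
      have hfx : f (g • X) ∈ fixedSub V (BB g : Set G) := (htrans g).le (hf _ hZ)
      refine normOver_eq_one _ (fun b hb => hEab c (hBBE _ hc) b (hBBE _ hb)) (hfx c hc)
        fun v hv hcv => hCE v fun a ha => ?_
      set ζ := g₀ * z * g₀⁻¹ with hζ
      have hsplit' : ∀ e ∈ E, ∃ i : ℕ, e * ζ ^ i ∈ BB g₀ := by
        intro e he
        obtain ⟨i, hi⟩ := hsplit (g₀⁻¹ * e * g₀) (by simpa using hEn.conj_mem e he g₀⁻¹)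
        refine ⟨i, _, hi, ?_⟩
        show g₀ * (g₀⁻¹ * e * g₀ * z ^ i) * g₀⁻¹ = e * (g₀ * z * g₀⁻¹) ^ i
        rw [conj_pow]; group
      have hζp : ζ ^ q = 1 := by rw [hζ, conj_pow, hEexp z hz]; group
      obtain ⟨i, hi⟩ := hsplit' c (hBBE _ hc)
      have hζi : ζ ^ i • v = v := by
        have h2 := hv _ hi
        rw [mul_smul] at h2
        exact smul_left_cancel c (h2.trans hcv.symm)
      have hnd : ¬ q ∣ i := fun hd => by
        obtain ⟨m, rfl⟩ := hd
        rw [pow_mul, hζp, one_pow, mul_one] at hi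
        exact hc0 hi
      obtain ⟨m, hm⟩ := exists_pow_eq_self_of_coprime (x := ζ) (n := i)
        ((Nat.Coprime.coprime_dvd_right (orderOf_dvd_of_pow_eq_one hζp)
          ((hq.out.coprime_iff_not_dvd.mpr hnd).symm)))
      have hζv : ζ • v = v := by
        rw [← hm]; exact (MulAction.stabilizer G v).pow_mem hζi m
      obtain ⟨j, hj⟩ := hsplit' a ha
      have h2 := hv _ hj
      rwa [mul_smul, (MulAction.stabilizer G v).pow_mem hζv j] at h2
    · exact fun hh => absurd hY hh
  have hXtop := h.no_block hp5 hblock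
  refine ⟨⟨⟨z, hz⟩, fun b => ?_⟩⟩
  obtain ⟨i, hi⟩ := hsplit b b.2
  have hb1 : (b : G) * z ^ i = 1 := h.faith _ fun v =>
    (hXtop.ge (Subgroup.mem_top v) : v ∈ X) _ hi
  refine ⟨-(i : ℤ), Subtype.ext ?_⟩
  show z ^ (-(i : ℤ)) = (b : G)
  rw [zpow_neg, zpow_natCast]
  exact (eq_inv_of_mul_eq_one_left hb1).symm

end Cfsg.Agent.HalfFixed23
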