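import Mathlib.LinearAlgebra.FiniteDimensional.Lemmas
import Mathlib.LinearAlgebra.Dimension.Constructions
import Mathlib.LinearAlgebra.Matrix.ToLin
import Mathlib.LinearAlgebra.FreeModule.Finite.Matrix

/-!
# Fixed endomorphisms under an operator normalizing a twisted group basis
-/

set_option autoImplicit false
set_option linter.unusedSectionVars false

namespace Cfsg.Agent.HalfFixed23

open Module

/-- The endomorphisms commuting with a given one. -/
def commutant {K U : Type*} [Field K] [AddCommGroup U] [Module K U] (N : Module.End K U) :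
    Submodule K (Module.End K U) where
  carrier := {X | X * N = N * X}
  zero_mem' := by simp
  add_mem' := fun {X Y} hX hY => by
    show (X + Y) * N = N * (X + Y)
    rw [add_mul, mul_add, (hX : X * N = N * X), (hY : Y * N = N * Y)]
  smul_mem' := fun c X hX => by
    show c • X * N = N * (c • X)
    rw [smul_mul_assoc, mul_smul_comm, (hX : X * N = N * X)]

/-- If the fixed space of `Y` has half the dimension, more than a quarter of all endomorphisms
commute with `Y`. -/
theorem lt_finrank_commutant {K U : Type*} [Field K] [AddCommGroup U] [Module K U]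
    [FiniteDimensional K U] (Y : Module.End K U) {h : ℕ} (hh : 0 < h) (hd : finrank K U = 2 * h)
    (hk : finrank K (LinearMap.ker (Y - 1)) = h) : h * h < finrank K (commutant Y) := by
  set N := Y - 1 with hN
  have hr : finrank K (LinearMap.range N) = h := by
    have := LinearMap.finrank_range_add_finrank_ker N
    omega
  have hq : finrank K (U ⧸ LinearMap.range N) = h := by
    have := Submodule.finrank_quotient_add_finrank (LinearMap.range N)
    omega
  let Φ : ((U ⧸ LinearMap.range N) →ₗ[K] LinearMap.ker N) →ₗ[K] Module.End K U :=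
    { toFun := fun f => (LinearMap.ker N).subtype ∘ₗ f ∘ₗ (LinearMap.range N).mkQ
      map_add' := fun f g => LinearMap.ext fun v => by simp
      map_smul' := fun c f => LinearMap.ext fun v => by simp }
  have hinj : Function.Injective Φ := fun f g hfg => LinearMap.ext fun v => by
    obtain ⟨u, rfl⟩ := Submodule.mkQ_surjective _ v
    exact Subtype.ext (LinearMap.congr_fun hfg u)
  have hle : LinearMap.range Φ ≤ commutant Y := by
    rintro _ ⟨f, rfl⟩
    refine LinearMap.ext fun v => ?_
    show ((f ((LinearMap.range N).mkQ (Y v)) : LinearMap.ker N) : U) =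
      Y ((f ((LinearMap.range N).mkQ v) : LinearMap.ker N) : U)
    have e1 : (LinearMap.range N).mkQ (Y v) = (LinearMap.range N).mkQ v :=
      (Submodule.Quotient.eq _).mpr ⟨v, by simp [hN]⟩
    have e2 : N ((f ((LinearMap.range N).mkQ v) : LinearMap.ker N) : U) = 0 := (f _).2
    rw [e1]
    generalize ((f ((LinearMap.range N).mkQ v) : LinearMap.ker N) : U) = w at e2 ⊢
    rw [hN, LinearMap.sub_apply, Module.End.one_apply, sub_eq_zero] at e2
    exact e2.symm
  have hne : LinearMap.range Φ ≠ commutant Y := by
    intro heq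
    have h1 : (1 : Module.End K U) ∈ LinearMap.range Φ := heq ▸ (by
      show (1 : Module.End K U) * Y = Y * 1
      rw [one_mul, mul_one])
    obtain ⟨f, hf⟩ := h1
    have h2 : LinearMap.range N = ⊥ := by
      refine (Submodule.eq_bot_iff _).mpr fun v hv => ?_
      have h3 := LinearMap.congr_fun hf v
      rw [Module.End.one_apply] at h3
      rw [← h3]
      show ((f ((LinearMap.range N).mkQ v) : LinearMap.ker N) : U) = 0
      rw [(Submodule.Quotient.mk_eq_zero _).mpr hv |> fun e => (show (LinearMap.range N).mkQ v = 0 from e),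
        map_zero]
      rfl
    rw [h2, finrank_bot] at hr
    omega
  calc h * h = finrank K ((U ⧸ LinearMap.range N) →ₗ[K] LinearMap.ker N) := by
        rw [Module.finrank_linearMap, hq, hk]
    _ = finrank K (LinearMap.range Φ) := (LinearMap.finrank_range_of_inj hinj).symm
    _ < finrank K (commutant Y) := Submodule.finrank_lt_finrank_of_lt (lt_of_le_of_ne hle hne)

/-- The counting bound. -/
theorem card_lt_four_mul {K U W : Type*} [Field K] [AddCommGroup U] [Module K U]
    [FiniteDimensional K U] [CommGroup W] [Fintype W] [DecidableEq W]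
    (hW : (Fintype.card W : K) ≠ 0)
    (B Bi : W → Module.End K U) (hBi : ∀ u, B u * Bi u = 1) (hiB : ∀ u, Bi u * B u = 1)
    (lam : W → W → K)
    (hconj : ∀ u t, B u * B t * Bi u = lam u t • B t)
    (hmul : ∀ u v, ∃ z : K, z ≠ 0 ∧ B u * B v = z • B (u * v))
    (hl1 : ∀ u v t, lam (u * v) t = lam u t * lam v t)
    (hl2 : ∀ u t t', lam u (t * t') = lam u t * lam u t')
    (hnd1 : ∀ t, t ≠ 1 → ∃ u, lam u t ≠ 1) (hnd2 : ∀ u, u ≠ 1 → ∃ t, lam u t ≠ 1)
    (Y Yi : Module.End K U) (hY : Y * Yi = 1) (hYi : Yi * Y = 1) (σ : W ≃ W)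
    (hσ : ∀ u, ∃ z : K, z ≠ 0 ∧ Y * B u * Yi = z • B (σ u))
    (hσlam : ∀ u t, lam (σ u) (σ t) = lam u t)
    (R : Finset W) (hR : ∀ q, ∃ r ∈ R, ∃ i : ℕ, σ^[i] r = q)
    {h : ℕ} (hh : 0 < h) (hd : finrank K U = 2 * h)
    (hk : finrank K (LinearMap.ker (Y - 1)) = h) :
    Fintype.card W < 4 * R.card := by
  have hlam0 : ∀ u t, lam u t ≠ 0 := by
    intro u t h0
    have h1 := hconj u t
    rw [h0, zero_smul] at h1
    have h2 : B t = 0 := by
      have h3 := congrArg (fun X => Bi u * X * B u) h1
      simp only [mul_zero, zero_mul] at h3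
      rwa [show Bi u * (B u * B t * Bi u) * B u = (Bi u * B u) * B t * (Bi u * B u) by
        simp only [mul_assoc], hiB, one_mul, mul_one] at h3
    have h4 := hBi t
    rw [h2, zero_mul] at h4
    haveI : Nontrivial U := Module.nontrivial_of_finrank_pos (R := K) (by omega)
    exact zero_ne_one h4
  have hl1one : ∀ t, lam 1 t = 1 := fun t => by
    have := hl1 1 1 t
    rw [mul_one] at this
    exact (mul_eq_left₀ (hlam0 1 t)).mp this.symm
  have hl2one : ∀ u, lam u 1 = 1 := fun u => by
    have := hl2 u 1 1
    rw [mul_one] at this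
    exact (mul_eq_left₀ (hlam0 u 1)).mp this.symm
  have hsum1 : ∀ u, ∑ t, (lam u t)⁻¹ = if u = 1 then (Fintype.card W : K) else 0 := by
    intro u
    split_ifs with hu
    · simp [hu, hl1one, Finset.card_univ]
    · obtain ⟨t₀, ht₀⟩ := hnd2 u hu
      have h1 : ∑ t, (lam u t)⁻¹ = (lam u t₀)⁻¹ * ∑ t, (lam u t)⁻¹ := by
        rw [Finset.mul_sum]
        refine (Fintype.sum_equiv (Equiv.mulLeft t₀) _ _ fun t => ?_).symm
        show (lam u t₀)⁻¹ * (lam u t)⁻¹ = (lam u (t₀ * t))⁻¹
        rw [hl2, mul_inv]
      by_contra hne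
      exact ht₀ (inv_eq_one.mp ((mul_eq_right₀ hne).mp h1.symm))
  have hsum2 : ∀ t t', ∑ u, (lam u t)⁻¹ * lam u t' = if t = t' then (Fintype.card W : K) else 0 := by
    intro t t'
    split_ifs with ht
    · subst ht
      simp [hlam0, Finset.card_univ]
    · have e : ∀ u, (lam u t)⁻¹ * lam u t' = lam u (t⁻¹ * t') := by
        intro u
        have h1 := hl2 u t (t⁻¹ * t')
        rw [mul_inv_cancel_left] at h1
        rw [h1, inv_mul_cancel_left₀ (hlam0 u t)]
      obtain ⟨u₀, hu₀⟩ := hnd1 (t⁻¹ * t') (fun e' => ht (inv_mul_eq_one.mp e'))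
      simp only [e]
      have h1 : ∑ u, lam u (t⁻¹ * t') = lam u₀ (t⁻¹ * t') * ∑ u, lam u (t⁻¹ * t') := by
        rw [Finset.mul_sum]
        refine (Fintype.sum_equiv (Equiv.mulLeft u₀) _ _ fun u => ?_).symm
        exact (hl1 u₀ u _).symm
      by_contra hne
      exact hu₀ ((mul_eq_right₀ hne).mp h1.symm)
  -- the projections
  let π : W → Module.End K U →ₗ[K] Module.End K U := fun t =>
    ∑ u, (lam u t)⁻¹ • (LinearMap.mulLeft K (B u) ∘ₗ LinearMap.mulRight K (Bi u))
  have hπ : ∀ t X, π t X = ∑ u, (lam u t)⁻¹ • (B u * X * Bi u) := fun t X => by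
    simp [π, LinearMap.sum_apply, mul_assoc]
  have hπsum : ∀ X, ∑ t, π t X = (Fintype.card W : K) • (B 1 * X * Bi 1) := by
    intro X
    simp only [hπ]
    rw [Finset.sum_comm, Finset.sum_eq_single 1]
    · rw [← Finset.sum_smul, hsum1, if_pos rfl]
    · intro u _ hu
      rw [← Finset.sum_smul, hsum1, if_neg hu, zero_smul]
    · simp
  have hB1 : ∀ X, B 1 * X * Bi 1 = X := by
    intro X
    obtain ⟨z, hz, hzz⟩ := hmul 1 1
    rw [mul_one] at hzz
    have h1 : B 1 = z • (1 : Module.End K U) := by
      calc B 1 = B 1 * B 1 * Bi 1 := by rw [mul_assoc, hBi, mul_one]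
        _ = z • (B 1 * Bi 1) := by rw [hzz, smul_mul_assoc]
        _ = _ := by rw [hBi]
    have h2 : Bi 1 = z⁻¹ • (1 : Module.End K U) := by
      calc Bi 1 = Bi 1 * 1 := (mul_one _).symm
        _ = Bi 1 * (z⁻¹ • B 1) := by rw [h1, smul_smul, inv_mul_cancel₀ hz, one_smul]
        _ = _ := by rw [mul_smul_comm, hiB]
    rw [h1, h2, smul_mul_assoc, one_mul, mul_smul_comm, mul_one, smul_smul, inv_mul_cancel₀ hz,
      one_smul]
  have hconjπ : ∀ a t X, B a * π t X * Bi a = lam a t • π t X := by
    intro a t X
    simp only [hπ, Finset.mul_sum, Finset.sum_mul, mul_smul_comm, smul_mul_assoc, Finset.smul_sum,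
      smul_smul]
    refine Fintype.sum_equiv (Equiv.mulLeft a) _ _ fun u => ?_
    obtain ⟨z, hz, hzz⟩ := hmul a u
    have hzi : Bi u * Bi a = z⁻¹ • Bi (a * u) := by
      calc Bi u * Bi a = Bi u * Bi a * (B (a * u) * Bi (a * u)) := by rw [hBi, mul_one]
        _ = Bi u * Bi a * ((z⁻¹ • (B a * B u)) * Bi (a * u)) := by
          rw [hzz, smul_smul, inv_mul_cancel₀ hz, one_smul]
        _ = z⁻¹ • (Bi u * (Bi a * B a) * B u * Bi (a * u)) := by
          simp only [smul_mul_assoc, mul_smul_comm, mul_assoc]
        _ = _ := by rw [hiB, mul_one, hiB, one_mul]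
    show (lam u t)⁻¹ • (B a * (B u * X * Bi u) * Bi a) =
      (lam a t * (lam (a * u) t)⁻¹) • (B (a * u) * X * Bi (a * u))
    rw [show B a * (B u * X * Bi u) * Bi a = (B a * B u) * X * (Bi u * Bi a) by
      simp only [mul_assoc], hzz, hzi, smul_mul_assoc, smul_mul_assoc, mul_smul_comm, smul_smul,
      smul_smul]
    congr 1
    rw [hl1]
    field_simp [hlam0 a t, hlam0 u t, hz]
  let Cm : Submodule K (Module.End K U) :=
    { carrier := {X | ∀ u, B u * X * Bi u = X}
      zero_mem' := fun u => by simp
      add_mem' := fun {X X'} hX hX' u => by rw [mul_add, add_mul, hX u, hX' u]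
      smul_mem' := fun c X hX u => by rw [mul_smul_comm, smul_mul_assoc, hX u] }
  have hCm : ∀ t X, Bi t * π t X ∈ Cm := by
    intro t X u
    have h1 : B u * Bi t * Bi u = (lam u t)⁻¹ • Bi t := by
      calc B u * Bi t * Bi u
          = B u * Bi t * Bi u * (B t * Bi t) := by rw [hBi, mul_one]
        _ = B u * Bi t * Bi u * ((lam u t)⁻¹ • (B u * B t * Bi u)) * Bi t := by
          rw [hconj, smul_smul, inv_mul_cancel₀ (hlam0 u t), one_smul]; simp only [mul_assoc]
        _ = (lam u t)⁻¹ • (B u * (Bi t * (Bi u * B u) * B t) * Bi u * Bi t) := by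
          simp only [smul_mul_assoc, mul_smul_comm, mul_assoc]
        _ = _ := by rw [hiB, mul_one, hiB, mul_one, hBi, one_mul]
    calc B u * (Bi t * π t X) * Bi u = (B u * Bi t * Bi u) * (B u * π t X * Bi u) := by
          conv_rhs => rw [show B u * Bi t * Bi u * (B u * π t X * Bi u) =
            B u * Bi t * (Bi u * B u) * π t X * Bi u by simp only [mul_assoc], hiB, mul_one]
          simp only [mul_assoc]
      _ = _ := by rw [h1, hconjπ, smul_mul_assoc, mul_smul_comm, smul_smul,
          inv_mul_cancel₀ (hlam0 u t), one_smul]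
  -- the lower bound on all endomorphisms
  have hlow : Fintype.card W * finrank K Cm ≤ finrank K (Module.End K U) := by
    let Ψ : (W → Cm) →ₗ[K] Module.End K U :=
      ∑ t, LinearMap.mulLeft K (B t) ∘ₗ Cm.subtype ∘ₗ LinearMap.proj t
    have hΨ : ∀ f, Ψ f = ∑ t, B t * (f t : Module.End K U) := fun f => by
      simp [Ψ, LinearMap.sum_apply]
    have hinj : Function.Injective Ψ := by
      refine (injective_iff_map_eq_zero Ψ).mpr fun f hf => funext fun t => Subtype.ext ?_
      have h1 := congrArg (π t) hf
      rw [map_zero, hΨ, map_sum] at h1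
      have h2 : ∀ s, π t (B s * (f s : Module.End K U)) =
          (∑ u, (lam u t)⁻¹ * lam u s) • (B s * (f s : Module.End K U)) := by
        intro s
        rw [hπ, Finset.sum_smul]
        refine Finset.sum_congr rfl fun u _ => ?_
        rw [← smul_smul]
        congr 1
        calc B u * (B s * (f s : Module.End K U)) * Bi u
            = B u * B s * Bi u * (B u * (f s : Module.End K U) * Bi u) := by
              conv_rhs => rw [show B u * B s * Bi u * (B u * (f s : Module.End K U) * Bi u) =
                B u * B s * (Bi u * B u) * (f s : Module.End K U) * Bi u by simp only [mul_assoc],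
                hiB, mul_one]
              simp only [mul_assoc]
          _ = _ := by rw [hconj, (f s).2 u, smul_mul_assoc]
      simp only [h2, hsum2] at h1
      rw [Finset.sum_eq_single t (fun s _ hs => by rw [if_neg hs.symm, zero_smul])
        (by simp), if_pos rfl, smul_eq_zero] at h1
      have h3 := congrArg (fun X => Bi t * X) (h1.resolve_left hW)
      simpa [← mul_assoc, hiB] using h3
    calc Fintype.card W * finrank K Cm = finrank K (W → Cm) := by
          rw [Module.finrank_pi_fintype]; simp
      _ ≤ _ := LinearMap.finrank_le_finrank_of_injective hinj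
  -- the upper bound on the commutant
  have hup : finrank K (commutant Y) ≤ R.card * finrank K Cm := by
    let Θ : commutant Y →ₗ[K] (R → Cm) :=
      LinearMap.pi fun r => LinearMap.codRestrict Cm
        (LinearMap.mulLeft K (Bi (r : W)) ∘ₗ π r ∘ₗ (commutant Y).subtype) fun X => hCm r X
    have hinj : Function.Injective Θ := by
      refine (injective_iff_map_eq_zero Θ).mpr fun X hX => Subtype.ext ?_
      have hstep : ∀ t, π (σ t) (X : Module.End K U) = Y * π t (X : Module.End K U) * Yi := by
        intro t
        simp only [hπ, Finset.mul_sum, Finset.sum_mul, mul_smul_comm, smul_mul_assoc]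
        refine (Fintype.sum_equiv σ _ _ fun u => ?_).symm
        obtain ⟨z, hz, hzz⟩ := hσ u
        rw [hσlam]
        congr 1
        have hzi : Y * Bi u * Yi = z⁻¹ • Bi (σ u) := by
          calc Y * Bi u * Yi = Y * Bi u * Yi * (B (σ u) * Bi (σ u)) := by rw [hBi, mul_one]
            _ = Y * Bi u * Yi * (z⁻¹ • (Y * B u * Yi)) * Bi (σ u) := by
              rw [hzz, smul_smul, inv_mul_cancel₀ hz, one_smul]; simp only [mul_assoc]
            _ = z⁻¹ • (Y * (Bi u * (Yi * Y) * B u) * Yi * Bi (σ u)) := by
              simp only [smul_mul_assoc, mul_smul_comm, mul_assoc]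
            _ = _ := by rw [hYi, mul_one, hiB, mul_one, hY, one_mul]
        have hXY : (X : Module.End K U) * Y = Y * (X : Module.End K U) := X.2
        calc Y * (B u * (X : Module.End K U) * Bi u) * Yi
            = (Y * B u * Yi) * (Y * (X : Module.End K U) * Yi) * (Y * Bi u * Yi) := by
              rw [show (Y * B u * Yi) * (Y * (X : Module.End K U) * Yi) * (Y * Bi u * Yi) =
                Y * B u * (Yi * Y) * (X : Module.End K U) * (Yi * Y) * Bi u * Yi by
                  simp only [mul_assoc], hYi, mul_one, mul_one]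
              simp only [mul_assoc]
          _ = _ := by
              rw [hzz, hzi, ← hXY, mul_assoc (X : Module.End K U) Y Yi, hY, mul_one, smul_mul_assoc,
                smul_mul_assoc, mul_smul_comm, smul_smul, mul_inv_cancel₀ hz, one_smul]
      have hzero : ∀ t, π t (X : Module.End K U) = 0 := by
        intro t
        obtain ⟨r, hr, i, rfl⟩ := hR t
        induction i with
        | zero =>
          have h1 := congrArg (fun f => (f ⟨r, hr⟩ : Cm)) hX
          have h2 : Bi r * π r (X : Module.End K U) = 0 := congrArg Subtype.val h1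
          simpa [← mul_assoc, hBi] using congrArg (fun Z => B r * Z) h2
        | succ i ih => rw [Function.iterate_succ_apply', hstep, ih, mul_zero, zero_mul]
      have h1 := hπsum (X : Module.End K U)
      rw [Finset.sum_eq_zero (fun t _ => hzero t), hB1] at h1
      exact (smul_eq_zero.mp h1.symm).resolve_left hW
    calc finrank K (commutant Y) ≤ finrank K (R → Cm) := LinearMap.finrank_le_finrank_of_injective hinj
      _ = _ := by rw [Module.finrank_pi_fintype]; simp
  have hlt := lt_finrank_commutant Y hh hd hk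
  have hE : finrank K (Module.End K U) = 4 * (h * h) := by
    rw [Module.finrank_linearMap, hd]; ring
  rw [hE] at hlow
  by_contra hge
  push Not at hge
  have := Nat.mul_le_mul_right (finrank K Cm) hge
  rw [mul_assoc] at this
  omega

end Cfsg.Agent.HalfFixed23
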