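import Cfsg.Agent.Lib.HalfFixed23.Semilinear
import Cfsg.Agent.Lib.HalfFixed23.Tensor
import Mathlib.Algebra.CharP.Lemmas
import Mathlib.RingTheory.LittleWedderburn

/-!
# No solvable group is generated by two conjugates of order at least five with complementary fixed
spaces
-/

set_option autoImplicit false
set_option linter.unusedSectionVars false

namespace Cfsg.Agent.HalfFixed23

open RegOrbit23
open scoped commutatorElement

universe u

theorem numeric_false {p s k m : ℕ} (hp : p.Prime) (hp5 : 5 ≤ p) (hs : s.Prime) (hk : 2 ≤ k)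
    (hm : m = s ^ k) (hcase : s = p ∨ m % p = 1) (hlt : (p - 4) * m < 4 * (p - 1)) : False := by
  obtain ⟨q, rfl⟩ : ∃ q, p = q + 5 := ⟨p - 5, by omega⟩
  rw [show q + 5 - 4 = q + 1 by omega, show q + 5 - 1 = q + 4 by omega] at hlt
  rcases hcase with rfl | hmod
  · have h1 : (q + 5) ^ 2 ≤ m := hm ▸ Nat.pow_le_pow_right (by omega) hk
    nlinarith
  · have hm1 : 1 < m := hm ▸ Nat.one_lt_pow (by omega) hs.one_lt
    have h2 : q + 6 ≤ m := by
      have := Nat.div_add_mod m (q + 5)
      rcases Nat.eq_zero_or_pos (m / (q + 5)) with h0 | h0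
      · rw [h0, mul_zero, zero_add] at this; omega
      · nlinarith
    rcases Nat.lt_or_ge q 2 with hq | hq
    · rcases Nat.eq_zero_or_pos q with rfl | hq0
      · have hm16 : m < 16 := by omega
        have h4 : s ^ 2 ∣ m := hm ▸ Nat.pow_dvd_pow s hk
        have hs4 : s < 4 := by
          by_contra hs4
          push Not at hs4
          have := Nat.le_of_dvd (by omega) h4
          nlinarith
        have hs2 := hs.two_le
        interval_cases s <;> omega
      · obtain rfl : q = 1 := by omega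
        exact absurd hp (by norm_num)
    · nlinarith

theorem half_pair_false : ∀ (n : ℕ) (G V : Type u) [Group G] [Finite G] [CommGroup V] [Finite V]
    [MulDistribMulAction G V] [Nontrivial V] (x y : G) (p : ℕ) [Fact p.Prime],
    5 ≤ p → Nat.card G = n → HalfPair G V x y p → False := by
  intro n
  induction n using Nat.strong_induction_on with
  | _ n ih =>
  intro G V _ _ _ _ _ _ x y p _ hp5 hn h
  classical
  haveI := h.solv
  set Z := Subgroup.center G with hZdef
  have habel : ∀ (A : Subgroup G) [A.Normal], (∀ a ∈ A, ∀ b ∈ A, a * b = b * a) → A ≤ Z :=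
    fun A _ hA => h.abelian_le_center hp5 A hA
  set Gb := G ⧸ Z
  set q₀ := QuotientGroup.mk' Z
  haveI : Nontrivial Gb := by
    by_contra hnt
    rw [not_nontrivial_iff_subsingleton] at hnt
    have hcomm : ∀ a b : G, a * b = b * a := fun a b =>
      (Subgroup.mem_center_iff.mp ((QuotientGroup.eq_one_iff a).mp (Subsingleton.elim (a : Gb) 1)) b).symm
    rcases h.irr (fx V x) (fun g v hv => mem_fx.mpr (by
      rw [← mul_smul, hcomm, mul_smul, mem_fx.mp hv])) with h1 | h1
    · have := h.card_fix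
      rw [h1, Subgroup.card_bot, one_mul] at this
      exact absurd this (Finite.one_lt_card).ne
    · exact h.x_ne_one (h.faith x fun v => mem_fx.mp (h1.ge (Subgroup.mem_top v)))
  obtain ⟨M, hM⟩ := Recog.exists_isMinNormal (G := Gb)
  haveI := hM.normal
  have hMab : IsMulCommutative M := by
    have : Nontrivial M := (Subgroup.nontrivial_iff_ne_bot M).mpr hM.ne_bot
    rcases hM.minimal ⁅M, M⁆ inferInstance (Subgroup.commutator_le_left M M) with hb | hb
    · refine ⟨⟨fun a b => Subtype.ext ?_⟩⟩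
      have := Subgroup.commutator_mem_commutator a.2 b.2
      rw [hb, Subgroup.mem_bot] at this
      exact commutatorElement_eq_one_iff_mul_comm.mp this
    · exfalso
      refine (Group.IsSolvable.commutator_lt_top_of_nontrivial M).ne ?_
      refine Subgroup.map_injective M.subtype_injective ?_
      rw [Subgroup.map_subtype_commutator, ← MonoidHom.range_eq_map, Subgroup.range_subtype, hb]
  obtain ⟨s, hs, hMexp⟩ := hM.exists_prime_pow_eq_one hMab
  haveI := Fact.mk hs
  letI : CommGroup M := { (inferInstance : Group M) with mul_comm := hMab.is_comm.comm }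
  haveI : Fintype M := Fintype.ofFinite M
  haveI : Nontrivial M := (Subgroup.nontrivial_iff_ne_bot M).mpr hM.ne_bot
  set S := M.comap q₀ with hSdef
  have hZS : Z ≤ S := fun z hz => by
    show q₀ z ∈ M
    rw [show q₀ z = 1 from (QuotientGroup.eq_one_iff z).mpr hz]
    exact one_mem M
  -- commutators
  let cm : G → G → G := fun a b => a * b * a⁻¹ * b⁻¹
  have hcmZ : ∀ a ∈ S, ∀ b ∈ S, cm a b ∈ Z := by
    intro a ha b hb
    refine (QuotientGroup.eq_one_iff _).mp ?_
    show q₀ (a * b * a⁻¹ * b⁻¹) = 1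
    rw [map_mul, map_mul, map_mul, map_inv, map_inv,
      show q₀ a * q₀ b = q₀ b * q₀ a from congrArg Subtype.val (hMab.is_comm.comm ⟨_, ha⟩ ⟨_, hb⟩)]
    group
  have hcen : ∀ {z : G}, z ∈ Z → ∀ g, g * z = z * g := fun hz g => Subgroup.mem_center_iff.mp hz g
  have hcm1 : ∀ a ∈ S, ∀ b ∈ S, ∀ c ∈ S, cm (a * b) c = cm a c * cm b c := by
    intro a ha b hb c hc
    calc cm (a * b) c = a * cm b c * (c * a⁻¹ * c⁻¹) := by simp only [cm]; group
      _ = cm b c * a * (c * a⁻¹ * c⁻¹) := by rw [hcen (hcmZ b hb c hc) a]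
      _ = cm b c * cm a c := by simp only [cm]; group
      _ = _ := (hcen (hcmZ b hb c hc) (cm a c)).symm
  have hcmsymm : ∀ a b, cm b a = (cm a b)⁻¹ := fun a b => by simp only [cm]; group
  have hcm2 : ∀ a ∈ S, ∀ b ∈ S, ∀ c ∈ S, cm c (a * b) = cm c a * cm c b := by
    intro a ha b hb c hc
    rw [hcmsymm (a * b) c, hcm1 a ha b hb c hc, mul_inv_rev, ← hcmsymm, ← hcmsymm]
    exact hcen (hcmZ c hc a ha) _
  have hcmz : ∀ z ∈ Z, ∀ c, cm z c = 1 := fun z hz c => by
    simp only [cm]; rw [← hcen hz c]; group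
  have hcmcong : ∀ a ∈ S, ∀ a', q₀ a = q₀ a' → ∀ c ∈ S, cm a' c = cm a c ∧ cm c a' = cm c a := by
    intro a ha a' haa c hc
    have hz : a⁻¹ * a' ∈ Z := QuotientGroup.eq.mp haa
    have h1 : cm a' c = cm a c := by
      conv_lhs => rw [show a' = a * (a⁻¹ * a') by group]
      rw [hcm1 a ha _ (hZS hz) c hc, hcmz _ hz, mul_one]
    exact ⟨h1, by rw [hcmsymm a' c, h1, ← hcmsymm]⟩
  let rep : M → G := fun u => (u : Gb).out
  have hrep : ∀ u : M, q₀ (rep u) = (u : Gb) := fun u => QuotientGroup.out_eq' _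
  have hrepS : ∀ u : M, rep u ∈ S := fun u => by
    show q₀ (rep u) ∈ M
    rw [hrep]; exact u.2
  -- nondegeneracy
  have hnondeg : ∀ t : M, (∀ u : M, cm (rep u) (rep t) = 1) → t = 1 := by
    intro t ht
    haveI : S.Normal := hM.normal.comap q₀
    have hmem : rep t ∈ S ⊓ Subgroup.centralizer (S : Set G) := by
      refine Subgroup.mem_inf.mpr ⟨hrepS t, Subgroup.mem_centralizer_iff.mpr fun a ha => ?_⟩
      have h1 := (hcmcong (rep ⟨q₀ a, ha⟩) (hrepS _) a (hrep _) (rep t) (hrepS t)).1
      rw [ht] at h1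
      exact mul_inv_eq_iff_eq_mul.mp (mul_inv_eq_one.mp h1)
    have hle := habel (S ⊓ Subgroup.centralizer (S : Set G))
      (fun a ha b hb => Subgroup.mem_centralizer_iff.mp hb.2 a ha.1)
    exact Subtype.ext ((hrep t).symm.trans ((QuotientGroup.eq_one_iff _).mpr (hle hmem)))
  have hSnonab : ∀ t : M, t ≠ 1 → ∃ u : M, cm (rep u) (rep t) ≠ 1 := fun t ht => by
    by_contra hall
    push Not at hall
    exact ht (hnondeg t hall)
  -- the field
  let ρ : G →* AddMonoid.End (Additive V) :=
    { toFun := fun g => (MonoidHom.toAdditive (MulDistribMulAction.toMonoidHom V g) :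
        Additive V →+ Additive V)
      map_one' := AddMonoidHom.ext fun v => congrArg Additive.ofMul (one_smul G v.toMul)
      map_mul' := fun a b => AddMonoidHom.ext fun v => congrArg Additive.ofMul (mul_smul a b v.toMul) }
  have hρ : ∀ g (v : Additive V), ρ g v = Additive.ofMul (g • v.toMul) := fun g v => rfl
  set D := Subring.centralizer (Set.range ρ) with hD
  haveI : Nontrivial (AddMonoid.End (Additive V)) := by
    obtain ⟨v, hv⟩ := exists_ne (1 : V)
    exact ⟨⟨1, 0, fun e => hv (congrArg Additive.toMul (DFunLike.congr_fun e (Additive.ofMul v)))⟩⟩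
  haveI : Finite (AddMonoid.End (Additive V)) :=
    Finite.of_injective (fun f : AddMonoid.End (Additive V) => (f : Additive V → Additive V))
      DFunLike.coe_injective
  have hDinj : ∀ a : D, a ≠ 0 → ∀ v, (a : AddMonoid.End (Additive V)) v = 0 → v = 0 := by
    intro a ha v hv
    let X : Subgroup V :=
      { carrier := {w | (a : AddMonoid.End (Additive V)) (Additive.ofMul w) = 0}
        one_mem' := map_zero (a : AddMonoid.End (Additive V))
        mul_mem' := fun {u w} hu hw => by
          show (a : AddMonoid.End (Additive V)) (Additive.ofMul (u * w)) = 0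
          rw [ofMul_mul, map_add, hu, hw, add_zero]
        inv_mem' := fun {u} hu => by
          show (a : AddMonoid.End (Additive V)) (Additive.ofMul u⁻¹) = 0
          rw [ofMul_inv, map_neg, hu, neg_zero] }
    rcases h.irr X (fun g w hw => by
      show (a : AddMonoid.End (Additive V)) (ρ g (Additive.ofMul w)) = 0
      have h1 : ρ g ((a : AddMonoid.End (Additive V)) (Additive.ofMul w)) =
          (a : AddMonoid.End (Additive V)) (ρ g (Additive.ofMul w)) :=
        DFunLike.congr_fun (Subring.mem_centralizer_iff.mp a.2 (ρ g) ⟨g, rfl⟩) (Additive.ofMul w)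
      rw [← h1, hw, map_zero]) with h1 | h1
    · have hv' : Additive.toMul v ∈ X := hv
      rw [h1, Subgroup.mem_bot] at hv'
      exact congrArg Additive.ofMul hv'
    · exact absurd (Subtype.ext (AddMonoidHom.ext fun w =>
        (h1.ge (Subgroup.mem_top w.toMul) : w.toMul ∈ X))) ha
  haveI : NoZeroDivisors D := ⟨fun {a b} hab => by
    by_contra hne
    push Not at hne
    refine hne.2 (Subtype.ext (AddMonoidHom.ext fun v => hDinj a hne.1 _ ?_))
    exact DFunLike.congr_fun (congrArg Subtype.val hab) v⟩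
  haveI : IsDomain D := NoZeroDivisors.to_isDomain D
  haveI : Finite D := inferInstance
  haveI : Fintype D := Fintype.ofFinite D
  letI : DivisionRing D := Fintype.divisionRingOfIsDomain D
  letI : Field D := littleWedderburn D
  letI : Module D (Additive V) := Module.compHom (Additive V) D.subtype
  have hsmulD : ∀ (d : D) (v : Additive V), d • v = (d : AddMonoid.End (Additive V)) v := fun d v => rfl
  haveI : Module.Finite D (Additive V) := Module.Finite.of_finite
  let lρ : G → Module.End D (Additive V) := fun g =>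
    { toFun := ρ g
      map_add' := map_add (ρ g)
      map_smul' := fun d v => DFunLike.congr_fun (Subring.mem_centralizer_iff.mp d.2 (ρ g) ⟨g, rfl⟩) v }
  have hlρ : ∀ a b, lρ (a * b) = lρ a * lρ b := fun a b =>
    LinearMap.ext fun v => DFunLike.congr_fun (map_mul ρ a b) v
  have hlρ1 : lρ 1 = 1 := LinearMap.ext fun v => DFunLike.congr_fun (map_one ρ) v
  have hlρinj : ∀ g, lρ g = 1 → g = 1 := fun g hg => h.faith g fun v =>
    congrArg Additive.toMul (LinearMap.congr_fun hg (Additive.ofMul v))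
  let sc : ∀ z ∈ Z, D := fun z hz => ⟨ρ z, Subring.mem_centralizer_iff.mpr (by
    rintro _ ⟨g, rfl⟩
    rw [← map_mul, ← map_mul, hcen hz g])⟩
  let lam : M → M → D := fun u t => sc (cm (rep u) (rep t)) (hcmZ _ (hrepS u) _ (hrepS t))
  have hlamone : ∀ u t, lam u t = 1 → cm (rep u) (rep t) = 1 := fun u t e => hlρinj _
    (LinearMap.ext fun v => DFunLike.congr_fun (congrArg Subtype.val e) v)
  have hscsmul : ∀ z (hz : z ∈ Z), lρ z = sc z hz • (1 : Module.End D (Additive V)) := fun z hz =>
    LinearMap.ext fun v => rfl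
  have hsc0 : ∀ z (hz : z ∈ Z), sc z hz ≠ 0 := fun z hz e => by
    obtain ⟨v, hv⟩ := exists_ne (1 : V)
    have h1 : z • v = 1 :=
      congrArg Additive.toMul (DFunLike.congr_fun (congrArg Subtype.val e) (Additive.ofMul v))
    exact hv ((smul_eq_one' z v).mp h1)
  have hscpow : ∀ z (hz : z ∈ Z) (m : ℕ), (sc z hz) ^ m = sc (z ^ m) (pow_mem hz m) := fun z hz m =>
    Subtype.ext (by
      rw [SubmonoidClass.coe_pow]
      exact (map_pow ρ z m).symm)
  -- the characteristic
  have hcms : ∀ a ∈ S, ∀ b ∈ S, cm a b ^ s = 1 := by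
    intro a ha b hb
    have h1 : ∀ m : ℕ, cm (a ^ m) b = cm a b ^ m := by
      intro m
      induction m with
      | zero => rw [pow_zero, pow_zero, hcmz 1 (one_mem Z)]
      | succ m ihm => rw [pow_succ, hcm1 _ (pow_mem ha m) a ha b hb, ihm, pow_succ]
    rw [← h1]
    exact hcmz _ ((QuotientGroup.eq_one_iff _).mp (by
      show q₀ (a ^ s) = 1
      rw [map_pow, hMexp _ ha])) b
  have hsD : (s : D) ≠ 0 := by
    intro h0
    haveI : CharP D s := by
      have h1 : ringChar D ∣ s := ringChar.dvd h0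
      rcases (Nat.dvd_prime hs).mp h1 with h2 | h2
      · exact absurd h2 CharP.ringChar_ne_one
      · exact h2 ▸ ringChar.charP D
    obtain ⟨t, ht⟩ := exists_ne (1 : M)
    obtain ⟨u, hu⟩ := hSnonab t ht
    have hzc := hcmZ _ (hrepS u) _ (hrepS t)
    have h1 : (lam u t) ^ s = 1 := by
      show (sc _ hzc) ^ s = 1
      rw [hscpow _ hzc]
      refine Subtype.ext ?_
      show ρ (cm (rep u) (rep t) ^ s) = 1
      rw [hcms _ (hrepS u) _ (hrepS t), map_one]
    have h2 : (lam u t - 1) ^ s = 0 := by rw [sub_pow_char, one_pow, h1, sub_self]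
    exact hu (hlamone u t (sub_eq_zero.mp (eq_zero_of_pow_eq_zero h2)))
  have hMp : IsPGroup s M := fun a => ⟨1, Subtype.ext (by simpa using hMexp a a.2)⟩
  have hMD : (Fintype.card M : D) ≠ 0 := by
    obtain ⟨k, hk⟩ := hMp.exists_card_eq
    rw [← Nat.card_eq_fintype_card, hk, Nat.cast_pow]
    exact pow_ne_zero _ hsD
  -- the action of `x` on `M`
  let φ : Gb →* MulAut M := MulAut.conjNormal
  set σ := φ (q₀ x) with hσdef
  have hσp : σ ^ p = 1 := by rw [hσdef, ← map_pow, ← map_pow, h.pow, map_one, map_one]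
  have hσrep : ∀ u : M, q₀ (x * rep u * x⁻¹) = q₀ (rep (σ u)) := by
    intro u
    rw [hrep, map_mul, map_mul, map_inv, hrep]
    exact (MulAut.conjNormal_apply (q₀ x) u).symm
  have hlamfg : ∀ (u t : M) (a b : G), a ∈ S → b ∈ S → q₀ a = (u : Gb) → q₀ b = (t : Gb) →
      cm a b = cm (rep u) (rep t) := by
    intro u t a b ha hb hau hbt
    rw [(hcmcong (rep u) (hrepS u) a (by rw [hrep, hau]) b hb).1,
      (hcmcong (rep t) (hrepS t) b (by rw [hrep, hbt]) (rep u) (hrepS u)).2]
  have hscmul : ∀ z₁ (h₁ : z₁ ∈ Z) z₂ (h₂ : z₂ ∈ Z) z (hz : z ∈ Z), z = z₁ * z₂ →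
      sc z hz = sc z₁ h₁ * sc z₂ h₂ := by
    intro z₁ h₁ z₂ h₂ z hz e
    subst e
    exact Subtype.ext (map_mul ρ z₁ z₂)
  obtain ⟨R, hR, hRcard⟩ := exists_reps (G := MulAut M) (α := M) hσp
  -- the count
  have hcount : Fintype.card M < 4 * R.card := by
    have hfix_h : Nat.card (fx V x) = Nat.card (LinearMap.ker (lρ x - 1)) := Nat.card_congr
      { toFun := fun v => ⟨Additive.ofMul (v : V), by
          rw [LinearMap.mem_ker, LinearMap.sub_apply, sub_eq_zero]
          exact congrArg Additive.ofMul ((mem_fx (V := V)).mp v.2)⟩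
        invFun := fun v => ⟨((v : Additive V).toMul : V), (mem_fx (V := V)).mpr (by
          have h1 := v.2
          rw [LinearMap.mem_ker, LinearMap.sub_apply, sub_eq_zero] at h1
          exact congrArg Additive.toMul h1)⟩
        left_inv := fun v => rfl
        right_inv := fun v => rfl }
    have hD2 : 2 ≤ Nat.card D := Finite.one_lt_card
    have hd : Module.finrank D (Additive V) = 2 * Module.finrank D (LinearMap.ker (lρ x - 1)) := by
      refine Nat.pow_right_injective hD2 ?_
      show Nat.card D ^ _ = Nat.card D ^ _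
      rw [← Module.natCard_eq_pow_finrank, two_mul, pow_add, ← Module.natCard_eq_pow_finrank, ← hfix_h,
        h.card_fix]
      exact Nat.card_congr Additive.toMul
    have hpos : 0 < Module.finrank D (LinearMap.ker (lρ x - 1)) := by
      rcases Nat.eq_zero_or_pos (Module.finrank D (LinearMap.ker (lρ x - 1))) with h0 | h0
      · haveI : Nontrivial (Additive V) := inferInstance
        have := Module.finrank_pos (R := D) (M := Additive V)
        omega
      · exact h0
    refine card_lt_four_mul hMD (fun u => lρ (rep u)) (fun u => lρ (rep u)⁻¹)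
      (fun u => by rw [← hlρ, mul_inv_cancel, hlρ1]) (fun u => by rw [← hlρ, inv_mul_cancel, hlρ1])
      lam (fun u t => ?_) (fun u v => ?_) (fun u v t => ?_) (fun u t t' => ?_)
      (fun t ht => ?_) (fun u hu => ?_) (lρ x) (lρ x⁻¹)
      (by rw [← hlρ, mul_inv_cancel, hlρ1]) (by rw [← hlρ, inv_mul_cancel, hlρ1]) σ.toEquiv
      (fun u => ?_) (fun u t => ?_) R (fun q => ?_) hpos hd rfl
    · rw [← hlρ, ← hlρ]
      show lρ _ = sc (cm (rep u) (rep t)) (hcmZ _ (hrepS u) _ (hrepS t)) • lρ (rep t)
      rw [show rep u * rep t * (rep u)⁻¹ = cm (rep u) (rep t) * rep t by simp only [cm]; group, hlρ,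
        hscsmul _ (hcmZ _ (hrepS u) _ (hrepS t)), smul_mul_assoc, one_mul]
    · have hz : (rep (u * v))⁻¹ * (rep u * rep v) ∈ Z := QuotientGroup.eq.mp (by
        show q₀ (rep (u * v)) = q₀ (rep u * rep v)
        rw [hrep, map_mul, hrep, hrep]; rfl)
      refine ⟨sc _ hz, hsc0 _ hz, ?_⟩
      rw [← hlρ]
      refine (congrArg lρ (show rep u * rep v = rep (u * v) * ((rep (u * v))⁻¹ * (rep u * rep v)) by group)).trans ?_
      rw [hlρ, hscsmul _ hz, mul_smul_comm, mul_one]
    · refine hscmul _ (hcmZ _ (hrepS u) _ (hrepS t)) _ (hcmZ _ (hrepS v) _ (hrepS t)) _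
        (hcmZ _ (hrepS (u * v)) _ (hrepS t)) ?_
      rw [← hcm1 _ (hrepS u) _ (hrepS v) _ (hrepS t)]
      exact (hlamfg (u * v) t _ _ (mul_mem (hrepS u) (hrepS v)) (hrepS t)
        (by rw [map_mul, hrep, hrep]; rfl) (hrep t)).symm
    · refine hscmul _ (hcmZ _ (hrepS u) _ (hrepS t)) _ (hcmZ _ (hrepS u) _ (hrepS t')) _
        (hcmZ _ (hrepS u) _ (hrepS (t * t'))) ?_
      rw [← hcm2 _ (hrepS t) _ (hrepS t') _ (hrepS u)]
      exact (hlamfg u (t * t') _ _ (hrepS u) (mul_mem (hrepS t) (hrepS t')) (hrep u)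
        (by rw [map_mul, hrep, hrep]; rfl)).symm
    · obtain ⟨u, hu⟩ := hSnonab t ht
      exact ⟨u, fun e => hu (hlamone u t e)⟩
    · obtain ⟨t, ht⟩ := hSnonab u hu
      refine ⟨t, fun e => ht ?_⟩
      rw [hcmsymm, hlamone u t e, inv_one]
    · have hz : (rep (σ u))⁻¹ * (x * rep u * x⁻¹) ∈ Z := QuotientGroup.eq.mp (hσrep u).symm
      refine ⟨sc _ hz, hsc0 _ hz, ?_⟩
      rw [← hlρ, ← hlρ]
      refine (congrArg lρ (show x * rep u * x⁻¹ = rep (σ u) * ((rep (σ u))⁻¹ * (x * rep u * x⁻¹)) by group)).trans ?_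
      rw [hlρ, hscsmul _ hz, mul_smul_comm, mul_one]
      rfl
    · have e : cm (rep (σ u)) (rep (σ t)) = cm (rep u) (rep t) := by
        rw [← hlamfg (σ u) (σ t) (x * rep u * x⁻¹) (x * rep t * x⁻¹)
          ((show S.Normal from hM.normal.comap q₀).conj_mem _ (hrepS u) x)
          ((show S.Normal from hM.normal.comap q₀).conj_mem _ (hrepS t) x)
          ((hσrep u).trans (hrep _)) ((hσrep t).trans (hrep _))]
        have h1 := hcen (hcmZ _ (hrepS u) _ (hrepS t)) x
        calc cm (x * rep u * x⁻¹) (x * rep t * x⁻¹) = x * cm (rep u) (rep t) * x⁻¹ := by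
              simp only [cm]; group
          _ = _ := by rw [h1, mul_inv_cancel_right]
      exact Subtype.ext (congrArg ρ e)
    · obtain ⟨r, hr, i, hi⟩ := hR q
      refine ⟨r, hr, i, ?_⟩
      rw [← hi]
      clear hi
      induction i with
      | zero => rfl
      | succ i ihi =>
        rw [Function.iterate_succ_apply', ihi, pow_succ', mul_smul]
        rfl
  -- the fixed points of `σ`
  let C : Subgroup M := σ.toMonoidHom.eqLocus (MonoidHom.id M)
  have hCc : Nat.card {q : M // σ • q = q} = Nat.card C := rfl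
  rw [hCc] at hRcard
  set c := Nat.card C with hc
  obtain ⟨j, hj⟩ := (hMp.to_subgroup C).exists_card_eq
  replace hj : c = s ^ j := hj
  have hcpos : 0 < c := Nat.card_pos
  obtain ⟨kn, hkn⟩ := hMp.exists_card_eq
  have hcm' : Nat.card M = c * C.index := (Subgroup.card_mul_index C).symm
  obtain ⟨k, -, hk⟩ := (Nat.dvd_prime_pow hs).mp (hkn ▸ Dvd.intro_left _ hcm'.symm)
  have hnotcyc : Nat.card M ≠ s := by
    intro hcard
    obtain ⟨g, hg⟩ := (isCyclic_of_prime_card hcard).exists_generator
    obtain ⟨t, ht⟩ := exists_ne (1 : M)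
    obtain ⟨u, hu⟩ := hSnonab t ht
    obtain ⟨a, rfl⟩ := Subgroup.mem_zpowers_iff.mp (hg t)
    obtain ⟨b, rfl⟩ := Subgroup.mem_zpowers_iff.mp (hg u)
    refine hu ?_
    rw [← hlamfg (g ^ b) (g ^ a) (rep g ^ b) (rep g ^ a) (zpow_mem (hrepS g) b) (zpow_mem (hrepS g) a)
      (by rw [map_zpow, hrep]; rfl) (by rw [map_zpow, hrep]; rfl)]
    simp only [cm]
    group
  have hσne : σ ≠ 1 := by
    intro hσ1
    haveI : (φ.ker.comap q₀).Normal := (MonoidHom.normal_ker φ).comap q₀
    have htop := h.eq_top_of_mem (φ.ker.comap q₀) (show q₀ x ∈ φ.ker from hσ1)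
    -- `M` is central, hence of prime order
    have hMc : ∀ (g : Gb) (m : M), g * (m : Gb) * g⁻¹ = m := by
      intro g m
      obtain ⟨g', rfl⟩ := QuotientGroup.mk'_surjective Z g
      have h1 : φ (q₀ g') = 1 := (htop.ge (Subgroup.mem_top g') : g' ∈ φ.ker.comap q₀)
      have h2 := congrArg Subtype.val (DFunLike.congr_fun h1 m)
      rwa [MulAut.conjNormal_apply] at h2
    obtain ⟨t, ht⟩ := exists_ne (1 : M)
    have ht1 : (t : Gb) ≠ 1 := fun e => ht (Subtype.ext e)
    have hzn : (Subgroup.zpowers (t : Gb)).Normal := ⟨fun a ha g => by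
      obtain ⟨i, rfl⟩ := Subgroup.mem_zpowers_iff.mp ha
      have := hMc g (t ^ i)
      rw [SubgroupClass.coe_zpow] at this
      rw [this]; exact ⟨i, rfl⟩⟩
    rcases hM.minimal _ hzn (Subgroup.zpowers_le.mpr t.2) with h1 | h1
    · exact ht1 (Subgroup.zpowers_eq_bot.mp h1)
    · refine hnotcyc ?_
      rw [← h1, Nat.card_zpowers, orderOf_eq_prime (hMexp _ t.2) ht1]
  have hk0 : k ≠ 0 := by
    intro hk0
    rw [hk0, pow_zero, Subgroup.index_eq_one] at hk
    exact hσne (MulEquiv.ext fun m => (hk.ge (Subgroup.mem_top m) : m ∈ C))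
  by_cases hk1 : k = 1
  · -- a smaller configuration
    rw [hk1, pow_one] at hk
    have hZ1 : Z ≠ ⊥ := by
      intro hZ1
      obtain ⟨t, ht⟩ := exists_ne (1 : M)
      obtain ⟨u, hu⟩ := hSnonab t ht
      exact hu (Subgroup.mem_bot.mp (hZ1 ▸ hcmZ _ (hrepS u) _ (hrepS t)))
    set H := φ.range
    have hlt : Nat.card H < n := by
      refine lt_of_le_of_lt (Nat.card_le_card_of_surjective φ.rangeRestrict φ.rangeRestrict_surjective) ?_
      rw [← hn, Subgroup.card_eq_card_quotient_mul_card_subgroup Z]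
      exact lt_mul_of_one_lt_right Nat.card_pos ((Subgroup.one_lt_card_iff_ne_bot Z).mpr hZ1)
    set x' : H := φ.rangeRestrict (q₀ x) with hx'
    set y' : H := φ.rangeRestrict (q₀ y) with hy'
    obtain ⟨g, hg⟩ := h.conj
    have hirrM : ∀ X : Subgroup M, (∀ a : H, ∀ v ∈ X, a • v ∈ X) → X = ⊥ ∨ X = ⊤ := by
      intro X hX
      have hXn : (X.map M.subtype).Normal := ⟨by
        rintro _ ⟨m, hm, rfl⟩ a
        exact ⟨_, hX (φ.rangeRestrict a) m hm, MulAut.conjNormal_apply a m⟩⟩
      rcases hM.minimal _ hXn (Subgroup.map_subtype_le _) with h1 | h1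
      · exact Or.inl ((Subgroup.map_eq_bot_iff_of_injective _ M.subtype_injective).mp h1)
      · refine Or.inr (Subgroup.map_injective M.subtype_injective ?_)
        rw [h1, ← MonoidHom.range_eq_map, Subgroup.range_subtype]
    have hgenH : Subgroup.closure ({x', y'} : Set H) = ⊤ := by
      have h1 := congrArg (Subgroup.map (φ.rangeRestrict.comp q₀)) h.gen
      rw [MonoidHom.map_closure, ← MonoidHom.range_eq_map, Set.image_pair,
        MonoidHom.range_eq_top_of_surjective _ (show Function.Surjective (φ.rangeRestrict.comp q₀) from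
          φ.rangeRestrict_surjective.comp (QuotientGroup.mk'_surjective Z))] at h1
      exact h1
    have hcap : ∀ v : M, x' • v = v → y' • v = v → v = 1 := by
      intro v hxv hyv
      let X : Subgroup M := fixedSub M (({x', y'} : Set H))
      have hXinv : ∀ a : H, ∀ w ∈ X, a • w ∈ X := by
        intro a w hw
        have ha : a • w = w := by
          have : (⊤ : Subgroup H) ≤ MulAction.stabilizer H w := by
            rw [← hgenH, Subgroup.closure_le]
            exact fun b hb => hw b hb
          exact this (Subgroup.mem_top a)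
        rw [ha]; exact hw
      rcases hirrM X hXinv with h1 | h1
      · have hv : v ∈ X := by
          rintro b (rfl | rfl)
          · exact hxv
          · exact hyv
        rw [h1, Subgroup.mem_bot] at hv
        exact hv
      · exact absurd (MulEquiv.ext fun m =>
          (h1.ge (Subgroup.mem_top m) : m ∈ X) x' (Or.inl rfl)) hσne
    have hconj' : φ.rangeRestrict (q₀ g) * x' * (φ.rangeRestrict (q₀ g))⁻¹ = y' := by
      rw [hx', hy', ← hg]; simp only [map_mul, map_inv]
    set ψ : H := φ.rangeRestrict (q₀ g) with hψ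
    let mp : C × C → M := fun u => (u.1 : M) * ψ • (u.2 : M)
    have hCx : ∀ u : C, x' • (u : M) = u := fun u => u.2
    have hmpinj : Function.Injective mp := by
      rintro ⟨a, b⟩ ⟨a', b'⟩ hab
      have h1 : (a : M) * (a' : M)⁻¹ = ψ • ((b' : M) * (b : M)⁻¹) := by
        rw [smul_mul', smul_inv', eq_mul_inv_iff_mul_eq, mul_right_comm, mul_inv_eq_iff_eq_mul,
          mul_comm (ψ • (b' : M))]
        exact hab
      have h2 : (a : M) * (a' : M)⁻¹ = 1 := by
        refine hcap _ (by rw [smul_mul', smul_inv', hCx, hCx]) ?_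
        rw [h1, ← hconj', mul_smul, mul_smul, inv_smul_smul, smul_mul', smul_inv', hCx, hCx]
      rw [h2, eq_comm, smul_eq_one', mul_inv_eq_one] at h1
      exact Prod.ext (Subtype.ext (mul_inv_eq_one.mp h2)) (Subtype.ext h1.symm)
    have hle : c * c ≤ c * s := by
      rw [← hk, ← hcm', hc, ← Nat.card_prod]
      exact Nat.card_le_card_of_injective mp hmpinj
    have hcs : c = s := by
      have hle' : c ≤ s := Nat.le_of_mul_le_mul_left hle hcpos
      rcases j with _ | _ | j
      · rw [pow_zero] at hj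
        exfalso
        exact hnotcyc (by rw [hcm', hj, one_mul, hk])
      · rw [zero_add, pow_one] at hj; exact hj
      · exfalso
        have h2 : s ^ 2 ≤ s := le_trans (Nat.pow_le_pow_right hs.pos (by omega)) (hj ▸ hle')
        have := hs.two_le
        nlinarith
    have hsurj : Function.Surjective mp := by
      have hb := (Nat.bijective_iff_injective_and_card mp).mpr ⟨hmpinj, by
        rw [Nat.card_prod, hcm', hk, hcs, ← hc, hcs]⟩
      exact hb.2
    refine ih (Nat.card H) hlt H M x' y' p hp5 rfl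
      ⟨Group.isSolvable_of_surjective (f := φ.rangeRestrict.comp q₀)
          (φ.rangeRestrict_surjective.comp (QuotientGroup.mk'_surjective Z)),
        fun a ha => Subtype.ext (MulEquiv.ext fun m => ha m), hirrM, hgenH, ⟨ψ, hconj'⟩,
        by rw [hx', ← map_pow, ← map_pow, h.pow, map_one, map_one], hcap, fun v => ?_⟩
    obtain ⟨⟨a, b⟩, hab⟩ := hsurj v
    refine ⟨(a : M), ψ • (b : M), hCx a, ?_, hab⟩
    rw [← hconj', mul_smul, mul_smul, inv_smul_smul, hCx]
  · -- counting
    have hk2 : 2 ≤ k := by omega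
    rw [← Nat.card_eq_fintype_card] at hcount hRcard
    set m := C.index with hm
    have h1 : (p - 4) * m < 4 * (p - 1) := by
      have h2 : p * Nat.card M < 4 * (Nat.card M + (p - 1) * c) :=
        calc p * Nat.card M < p * (4 * R.card) := (Nat.mul_lt_mul_left (by omega)).mpr hcount
          _ = 4 * (p * R.card) := by ring
          _ ≤ _ := Nat.mul_le_mul_left 4 hRcard
      have h3 : (p - 4) * Nat.card M + 4 * Nat.card M = p * Nat.card M := by
        rw [← add_mul, Nat.sub_add_cancel (by omega)]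
      refine Nat.lt_of_mul_lt_mul_left (a := c) ?_
      calc c * ((p - 4) * m) = (p - 4) * Nat.card M := by rw [hcm']; ring
        _ < 4 * ((p - 1) * c) := by omega
        _ = c * (4 * (p - 1)) := by ring
    refine numeric_false (Fact.out : p.Prime) hp5 hs hk2 hk ?_ h1
    by_cases hsp : s = p
    · exact Or.inl hsp
    refine Or.inr ?_
    have hσP : IsPGroup p (Subgroup.zpowers σ) := by
      intro a
      refine ⟨1, ?_⟩
      obtain ⟨i, hi⟩ := Subgroup.mem_zpowers_iff.mp a.2
      refine Subtype.ext ?_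
      rw [pow_one, SubgroupClass.coe_pow, ← hi, ← zpow_natCast, ← zpow_mul, mul_comm, zpow_mul,
        zpow_natCast, hσp, one_zpow]
      rfl
    have hmod := hσP.card_modEq_card_fixedPoints M
    have hfixC : Nat.card (MulAction.fixedPoints (Subgroup.zpowers σ) M) = c := by
      refine Nat.card_congr (Equiv.subtypeEquivRight fun q => ⟨fun hq => hq ⟨σ, Subgroup.mem_zpowers σ⟩,
        fun hq a => ?_⟩)
      exact Subgroup.zpowers_le.mpr (show σ ∈ MulAction.stabilizer (MulAut M) q from hq) a.2
    rw [hfixC, hcm'] at hmod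
    have hpc : Nat.gcd p c = 1 := by
      rw [hj]
      exact ((Nat.coprime_primes (Fact.out : p.Prime) hs).mpr (Ne.symm hsp)).pow_right j
    have h2 : m ≡ 1 [MOD p] := by
      have : c * m ≡ c * 1 [MOD p] := by rw [mul_one]; exact hmod
      exact Nat.ModEq.cancel_left_of_coprime hpc this
    exact Nat.mod_eq_of_modEq h2 (by omega)

end Cfsg.Agent.HalfFixed23
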