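import Mathlib.GroupTheory.Solvable
import Mathlib.GroupTheory.Sylow
import Mathlib.GroupTheory.Index
import Cfsg.Agent.Lib.Recog.MinNormal

/-!
# Orbit representatives, and fixed cosets of a maximal subgroup of a solvable group
-/

set_option autoImplicit false
set_option linter.unusedSectionVars false

namespace Cfsg.Agent.HalfFixed23

theorem exists_reps {G α : Type*} [Group G] [MulAction G α] [Fintype α] [DecidableEq α] {p : ℕ}
    [hp : Fact p.Prime] {x : G} (hx : x ^ p = 1) :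
    ∃ R : Finset α, (∀ q, ∃ r ∈ R, ∃ i : ℕ, x ^ i • r = q) ∧
      p * R.card ≤ Fintype.card α + (p - 1) * Nat.card {q : α // x • q = q} := by
  classical
  let e := Fintype.equivFin α
  let R := Finset.univ.filter (fun q : α => ∀ i < p, e q ≤ e (x ^ i • q))
  have hmod : ∀ (i : ℕ) (q : α), x ^ (i % p) • q = x ^ i • q := fun i q => by
    rw [← pow_eq_pow_mod i hx]
  refine ⟨R, fun q => ?_, ?_⟩
  · obtain ⟨j, -, hmin⟩ := Finset.exists_min_image (Finset.range p) (fun i => e (x ^ i • q))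
      ⟨0, Finset.mem_range.mpr hp.out.pos⟩
    refine ⟨x ^ j • q, Finset.mem_filter.mpr ⟨Finset.mem_univ _, fun i _ => ?_⟩, (p - 1) * j, ?_⟩
    · rw [← mul_smul, ← pow_add, ← hmod (i + j)]
      exact hmin _ (Finset.mem_range.mpr (Nat.mod_lt _ hp.out.pos))
    · rw [← mul_smul, ← pow_add,
        show (p - 1) * j + j = p * j by
          rw [← Nat.succ_mul, Nat.succ_eq_add_one, Nat.sub_add_cancel hp.out.one_le],
        pow_mul, hx, one_pow, one_smul]
  · set F := Finset.univ.filter (fun q : α => x • q = q)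
    have hF : Nat.card {q : α // x • q = q} = F.card := by
      rw [Nat.card_eq_fintype_card, Fintype.card_subtype]
    have hFR : F ⊆ R := by
      intro q hq
      rw [Finset.mem_filter] at hq
      refine Finset.mem_filter.mpr ⟨Finset.mem_univ _, fun i _ => le_of_eq ?_⟩
      exact congrArg e ((MulAction.stabilizer G q).pow_mem hq.2 i).symm
    have key : ∀ r ∈ R, x • r ≠ r → ∀ s ∈ R, ∀ i < p, ∀ j < p, x ^ i • r = x ^ j • s →
        r = s ∧ i = j := by
      intro r hr hrx s hs i hi j hj h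
      rw [Finset.mem_filter] at hr hs
      have h1 : x ^ ((p - i + j) % p) • s = r := by
        rw [hmod, pow_add, mul_smul, ← h, ← mul_smul, ← pow_add, Nat.sub_add_cancel hi.le, hx,
          one_smul]
      have h2 : x ^ ((p - j + i) % p) • r = s := by
        rw [hmod, pow_add, mul_smul, h, ← mul_smul, ← pow_add, Nat.sub_add_cancel hj.le, hx,
          one_smul]
      have hrs : r = s := e.injective (le_antisymm
        ((hr.2 _ (Nat.mod_lt _ hp.out.pos)).trans (le_of_eq (congrArg e h2)))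
        ((hs.2 _ (Nat.mod_lt _ hp.out.pos)).trans (le_of_eq (congrArg e h1))))
      subst hrs
      refine ⟨rfl, ?_⟩
      by_contra hij
      set k := (p - i + j) % p
      have hk0 : k ≠ 0 := by
        intro h0
        obtain ⟨m, hm⟩ := Nat.dvd_of_mod_eq_zero h0
        rcases m with _ | _ | m
        · omega
        · omega
        · rw [mul_add, mul_add, mul_one] at hm; omega
      obtain ⟨m, hm⟩ := exists_pow_eq_self_of_coprime (x := x) (n := k)
        (Nat.Coprime.coprime_dvd_right (orderOf_dvd_of_pow_eq_one hx)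
          (Nat.coprime_of_lt_prime hk0 (Nat.mod_lt _ hp.out.pos) hp.out).symm)
      exact hrx (hm ▸ (MulAction.stabilizer G r).pow_mem h1 m)
    have h1 : p * (R \ F).card + F.card ≤ Fintype.card α := by
      have h2 : ((R \ F) ×ˢ Finset.range p).card ≤ (Finset.univ \ F).card := by
        refine Finset.card_le_card_of_injOn (fun a => x ^ a.2 • a.1) ?_ ?_
        · rintro ⟨r, i⟩ hri
          rw [Finset.mem_coe, Finset.mem_product, Finset.mem_sdiff] at hri
          rw [Finset.mem_coe, Finset.mem_sdiff]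
          refine ⟨Finset.mem_univ _, fun h => hri.1.2 (Finset.mem_filter.mpr ⟨Finset.mem_univ _, ?_⟩)⟩
          have h3 := (Finset.mem_filter.mp h).2
          rw [← mul_smul, ← pow_succ', pow_succ, mul_smul] at h3
          exact smul_left_cancel _ h3
        · rintro ⟨r, i⟩ hri ⟨s, j⟩ hsj h
          rw [Finset.mem_coe, Finset.mem_product, Finset.mem_sdiff, Finset.mem_range] at hri hsj
          obtain ⟨h4, h5⟩ := key r hri.1.1 (fun hh => hri.1.2
            (Finset.mem_filter.mpr ⟨Finset.mem_univ _, hh⟩)) s hsj.1.1 i hri.2 j hsj.2 h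
          exact Prod.ext h4 h5
      rw [Finset.card_product, Finset.card_range, Finset.card_sdiff_of_subset (Finset.subset_univ F),
        Finset.card_univ, mul_comm] at h2
      have := Finset.card_le_univ F
      omega
    have h2 : (R \ F).card + F.card = R.card := by
      rw [Finset.card_sdiff_of_subset hFR, Nat.sub_add_cancel (Finset.card_le_card hFR)]
    rw [hF, ← h2, mul_add, Nat.sub_mul, one_mul]
    have := Nat.le_mul_of_pos_left F.card hp.out.pos
    omega

/-- An element of order `p` acting nontrivially on an abelian group of exponent `s` fixes a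
subgroup of index at least `p`. -/
theorem index_fix_ge {G : Type*} [Group G] [Finite G] {p s : ℕ} [hp : Fact p.Prime] [hs : Fact s.Prime]
    (M : Subgroup G) [hMn : M.Normal] (hMexp : ∀ m ∈ M, m ^ s = 1)
    (hMab : ∀ a ∈ M, ∀ b ∈ M, a * b = b * a) {x : G} (hx : x ^ p = 1)
    (hne : ∃ m ∈ M, x * m ≠ m * x) :
    p * Nat.card ↥(M ⊓ Subgroup.centralizer ({x} : Set G)) ≤ Nat.card M := by
  classical
  set C := M ⊓ Subgroup.centralizer ({x} : Set G) with hC
  have hCx : ∀ c ∈ C, x * c = c * x := fun c hc =>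
    (Subgroup.mem_centralizer_singleton_iff.mp hc.2).symm
  obtain ⟨m₀, hm₀, hm₀x⟩ := hne
  set K := C.relIndex M with hK
  have hcard : Nat.card M = Nat.card C * K := by
    rw [hK, Subgroup.relIndex, ← Nat.card_congr (Subgroup.subgroupOfEquivOfLe (inf_le_left : C ≤ M)).toEquiv]
    exact (Subgroup.card_mul_index _).symm
  rw [hcard, mul_comm p]
  refine Nat.mul_le_mul_left _ ?_
  by_contra hlt
  push Not at hlt
  -- the conjugates of `m₀` lie in fewer than `p` cosets
  have hd : ∃ k, 0 < k ∧ k < p ∧ (x ^ k * m₀ * (x ^ k)⁻¹) * m₀⁻¹ ∈ C := by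
    let f : Fin p → M ⧸ C.subgroupOf M := fun i =>
      QuotientGroup.mk ⟨x ^ (i : ℕ) * m₀ * (x ^ (i : ℕ))⁻¹, hMn.conj_mem m₀ hm₀ _⟩
    haveI : Fintype (M ⧸ C.subgroupOf M) := Fintype.ofFinite _
    obtain ⟨i, j, hij, hf⟩ := Fintype.exists_ne_map_eq_of_card_lt f (by
      rw [Fintype.card_fin, ← Nat.card_eq_fintype_card]
      exact hlt)
    have hcase : ∀ i j : Fin p, (i : ℕ) < j → f i = f j →
        ∃ k, 0 < k ∧ k < p ∧ (x ^ k * m₀ * (x ^ k)⁻¹) * m₀⁻¹ ∈ C := by
      intro i j hlt h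
      refine ⟨(j : ℕ) - i, by omega, by omega, ?_⟩
      have h2 : (x ^ (i : ℕ) * m₀ * (x ^ (i : ℕ))⁻¹)⁻¹ * (x ^ (j : ℕ) * m₀ * (x ^ (j : ℕ))⁻¹) ∈ C := by
        have h' : (QuotientGroup.mk (⟨x ^ (i : ℕ) * m₀ * (x ^ (i : ℕ))⁻¹, hMn.conj_mem m₀ hm₀ _⟩ : M) : M ⧸ C.subgroupOf M) =
            QuotientGroup.mk ⟨x ^ (j : ℕ) * m₀ * (x ^ (j : ℕ))⁻¹, hMn.conj_mem m₀ hm₀ _⟩ := h
        exact Subgroup.mem_subgroupOf.mp (QuotientGroup.eq.mp h')
      set d := x ^ ((j : ℕ) - i) * m₀ * (x ^ ((j : ℕ) - i))⁻¹ * m₀⁻¹ with hd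
      have hdM : d ∈ M := mul_mem (hMn.conj_mem m₀ hm₀ _) (inv_mem hm₀)
      have h3 : x ^ (i : ℕ) * d * (x ^ (i : ℕ))⁻¹ ∈ C := by
        have e : x ^ (i : ℕ) * d * (x ^ (i : ℕ))⁻¹ =
            (x ^ (j : ℕ) * m₀ * (x ^ (j : ℕ))⁻¹) * (x ^ (i : ℕ) * m₀ * (x ^ (i : ℕ))⁻¹)⁻¹ := by
          rw [hd]
          have : x ^ (j : ℕ) = x ^ (i : ℕ) * x ^ ((j : ℕ) - i) := by
            rw [← pow_add, Nat.add_sub_cancel' hlt.le]
          rw [this]; group
        rw [e, hMab _ (hMn.conj_mem m₀ hm₀ _) _ (inv_mem (hMn.conj_mem m₀ hm₀ _))]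
        exact h2
      have hcomm := Commute.pow_left (show Commute x _ from hCx _ h3) (i : ℕ)
      refine ⟨hdM, Subgroup.mem_centralizer_singleton_iff.mpr ?_⟩
      have h4 : x ^ (i : ℕ) * d * (x ^ (i : ℕ))⁻¹ = d := by
        have h5 := hcomm.eq
        have : x ^ (i : ℕ) * (x ^ (i : ℕ) * d * (x ^ (i : ℕ))⁻¹) * (x ^ (i : ℕ))⁻¹ =
            x ^ (i : ℕ) * d * (x ^ (i : ℕ))⁻¹ := by rw [h5, mul_inv_cancel_right]
        exact mul_left_cancel (mul_right_cancel this)
      rw [h4] at h3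
      exact (hCx d h3).symm
    rcases lt_or_gt_of_ne (Fin.val_ne_of_ne hij) with h | h
    · exact hcase i j h hf
    · exact hcase j i h hf.symm
  obtain ⟨k, hk0, hkp, hkC⟩ := hd
  set d := x ^ k * m₀ * (x ^ k)⁻¹ * m₀⁻¹ with hd
  have hdx : Commute (x ^ k) d := Commute.pow_left (hCx d hkC) k
  have hpow : ∀ n : ℕ, (x ^ k) ^ n * m₀ * ((x ^ k) ^ n)⁻¹ = d ^ n * m₀ := by
    intro n
    induction n with
    | zero => simp
    | succ n ih =>
      rw [pow_succ' (x ^ k), mul_inv_rev,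
        show x ^ k * (x ^ k) ^ n * m₀ * (((x ^ k) ^ n)⁻¹ * (x ^ k)⁻¹) =
          x ^ k * ((x ^ k) ^ n * m₀ * ((x ^ k) ^ n)⁻¹) * (x ^ k)⁻¹ by group, ih,
        ← mul_assoc, (hdx.pow_right n).eq, mul_assoc (d ^ n), mul_assoc (d ^ n), hd,
        pow_succ]
      group
  have hd1 : d = 1 := by
    by_cases hsp : s = p
    · -- the index would be a power of `p` below `p`
      subst hsp
      have hKdvd : K ∣ Nat.card M := Dvd.intro_left _ hcard.symm
      obtain ⟨e, he⟩ := (show IsPGroup s M from fun m => ⟨1, Subtype.ext (by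
        simpa using hMexp m m.2)⟩).exists_card_eq
      obtain ⟨i, -, hi⟩ := (Nat.dvd_prime_pow hp.out).mp (he ▸ hKdvd)
      rcases i with _ | i
      · exfalso
        rw [pow_zero] at hi
        have hMC : M ≤ C := Subgroup.relIndex_eq_one.mp (hK ▸ hi)
        exact hm₀x (hCx m₀ (hMC hm₀))
      · exfalso
        rw [hi, pow_succ] at hlt
        exact absurd hlt (not_lt.mpr (Nat.le_mul_of_pos_left _ (pow_pos hp.out.pos i)))
    · have h1 := hpow p
      rw [← pow_mul, mul_comm k, pow_mul, hx, one_pow, one_mul, inv_one, mul_one] at h1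
      refine orderOf_eq_one_iff.mp (Nat.eq_one_of_dvd_coprimes
        ((Nat.coprime_primes hs.out hp.out).mpr hsp)
        (orderOf_dvd_of_pow_eq_one (hMexp d hkC.1))
        (orderOf_dvd_of_pow_eq_one (right_eq_mul.mp h1)))
  have hcm : x ^ k * m₀ = m₀ * x ^ k := by
    rw [hd, mul_inv_eq_one, mul_inv_eq_iff_eq_mul] at hd1
    exact hd1
  obtain ⟨e, he⟩ := exists_pow_eq_self_of_coprime (x := x) (n := k)
    (Nat.Coprime.coprime_dvd_right (orderOf_dvd_of_pow_eq_one hx)
      (Nat.coprime_of_lt_prime hk0.ne' hkp hp.out).symm)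
  exact hm₀x (he ▸ (Commute.pow_left hcm e).eq)

/-- A group generated by two conjugate elements of order `p`: each fixes at most one in `p` of the
cosets of a maximal subgroup, when the group is solvable. -/
theorem fixed_cosets_le {G : Type*} [Group G] [Finite G] [Group.IsSolvable G] {p : ℕ}
    [hp : Fact p.Prime] {x y : G} (hx : x ^ p = 1) (hgen : Subgroup.closure {x, y} = ⊤)
    (hconj : ∃ g, g * x * g⁻¹ = y) (K : Subgroup G) (hK : IsCoatom K) :
    p * Nat.card {q : G ⧸ K // x • q = q} ≤ K.index := by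
  classical
  by_cases hne : Nonempty {q : G ⧸ K // x • q = q}
  swap
  · rw [not_nonempty_iff] at hne
    simp
  obtain ⟨⟨q₀, hq₀⟩⟩ := hne
  obtain ⟨a, rfl⟩ := QuotientGroup.mk_surjective q₀
  have hxa : a⁻¹ * x * a ∈ K := by
    have h := QuotientGroup.eq.mp (show (QuotientGroup.mk a : G ⧸ K) = QuotientGroup.mk (x * a) from
      hq₀.symm)
    rwa [← mul_assoc] at h
  set C0 := K.normalCore
  set π := QuotientGroup.mk' C0
  set Kb := K.map π with hKb
  have hC0K : C0 ≤ K := K.normalCore_le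
  have hKmem : ∀ g, π g ∈ Kb ↔ g ∈ K := by
    intro g
    refine ⟨?_, fun h => Subgroup.mem_map_of_mem _ h⟩
    rintro ⟨k, hk, hkg⟩
    have h1 : k⁻¹ * g ∈ K := hC0K (QuotientGroup.eq.mp hkg)
    simpa using mul_mem hk h1
  have hKbne : Kb ≠ ⊤ := fun h => hK.1 (eq_top_iff.mpr fun g _ => (hKmem g).mp (h ▸ Subgroup.mem_top _))
  haveI : Nontrivial (G ⧸ C0) := by
    by_contra h
    rw [not_nontrivial_iff_subsingleton] at h
    exact hKbne (Subsingleton.elim _ _)
  obtain ⟨M, hM⟩ := Recog.exists_isMinNormal (G := G ⧸ C0)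
  haveI := hM.normal
  have hMab : IsMulCommutative M := by
    have : Nontrivial M := (Subgroup.nontrivial_iff_ne_bot M).mpr hM.ne_bot
    rcases hM.minimal ⁅M, M⁆ inferInstance (Subgroup.commutator_le_left M M) with hb | hb
    · refine ⟨⟨fun u v => Subtype.ext ?_⟩⟩
      have := Subgroup.commutator_mem_commutator u.2 v.2
      rw [hb, Subgroup.mem_bot] at this
      exact commutatorElement_eq_one_iff_mul_comm.mp this
    · exfalso
      refine (Group.IsSolvable.commutator_lt_top_of_nontrivial M).ne ?_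
      refine Subgroup.map_injective M.subtype_injective ?_
      rw [Subgroup.map_subtype_commutator, ← MonoidHom.range_eq_map, Subgroup.range_subtype, hb]
  have hMc : ∀ u ∈ M, ∀ v ∈ M, u * v = v * u := fun u hu v hv =>
    congrArg Subtype.val (hMab.is_comm.comm ⟨u, hu⟩ ⟨v, hv⟩)
  obtain ⟨s, hs, hMexp⟩ := hM.exists_prime_pow_eq_one hMab
  haveI := Fact.mk hs
  have hcore : ∀ N : Subgroup (G ⧸ C0), N.Normal → N ≤ Kb → N = ⊥ := by
    intro N hN hNK
    have h1 : N.comap π ≤ C0 :=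
      Subgroup.normal_le_normalCore.mpr fun g hg => (hKmem g).mp (hNK hg)
    refine (Subgroup.eq_bot_iff_forall _).mpr fun u hu => ?_
    obtain ⟨g, rfl⟩ := QuotientGroup.mk'_surjective C0 u
    exact (QuotientGroup.eq_one_iff g).mpr (h1 hu)
  have hsup : M ⊔ Kb = ⊤ := by
    by_contra h
    have h2 : (M ⊔ Kb).comap π = K := by
      refine ((hK.le_iff.mp (fun g hg => Subgroup.mem_comap.mpr (Subgroup.mem_sup_right ((hKmem g).mpr hg)))).resolve_left
        fun h3 => h (eq_top_iff.mpr fun u _ => ?_))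
      obtain ⟨g, rfl⟩ := QuotientGroup.mk'_surjective C0 u
      exact Subgroup.mem_comap.mp (h3 ▸ Subgroup.mem_top g)
    refine hM.ne_bot (hcore M hM.normal fun u hu => ?_)
    obtain ⟨g, rfl⟩ := QuotientGroup.mk'_surjective C0 u
    exact (hKmem g).mpr (h2 ▸ Subgroup.mem_comap.mpr (Subgroup.mem_sup_left hu))
  have hinf : M ⊓ Kb = ⊥ := by
    refine hcore _ ⟨fun u hu g => ?_⟩ inf_le_right
    have hg : g ∈ M ⊔ Kb := hsup ▸ Subgroup.mem_top g
    rw [← SetLike.mem_coe, Subgroup.normal_mul] at hg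
    obtain ⟨m, hm, k, hk, rfl⟩ := hg
    have h1 : k * u * k⁻¹ ∈ M ⊓ Kb :=
      ⟨hM.normal.conj_mem u hu.1 k, Kb.mul_mem (Kb.mul_mem hk hu.2) (Kb.inv_mem hk)⟩
    show m * k * u * (m * k)⁻¹ ∈ M ⊓ Kb
    rw [show m * k * u * (m * k)⁻¹ = m * (k * u * k⁻¹) * m⁻¹ by group, hMc m hm _ h1.1,
      mul_inv_cancel_right]
    exact h1
  set x' := π (a⁻¹ * x * a)
  have hx'K : x' ∈ Kb := Subgroup.mem_map_of_mem _ hxa
  have hx'1 : x' ≠ 1 := by
    intro h
    have h1 : a⁻¹ * x * a ∈ C0 := (QuotientGroup.eq_one_iff _).mp h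
    have h2 : x ∈ C0 := by simpa [mul_assoc] using
      (inferInstance : C0.Normal).conj_mem _ h1 a
    obtain ⟨g, hg⟩ := hconj
    have h3 : (⊤ : Subgroup G) ≤ K := by
      rw [← hgen, Subgroup.closure_le]
      rintro z (rfl | rfl)
      · exact hC0K h2
      · exact hC0K (hg ▸ (inferInstance : C0.Normal).conj_mem x h2 g)
    exact hK.1 (top_le_iff.mp h3)
  have hx'p : x' ^ p = 1 := by
    rw [← map_pow, show (a⁻¹ * x * a) ^ p = a⁻¹ * x ^ p * a by simpa using conj_pow (a := a⁻¹) (b := x) (i := p), hx]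
    simp
  have hnonc : ∃ m ∈ M, x' * m ≠ m * x' := by
    by_contra hall
    push Not at hall
    refine hx'1 ?_
    have : (Subgroup.centralizer (M : Set (G ⧸ C0)) ⊓ Kb) = ⊥ := by
      refine hcore _ ⟨fun u hu g => ?_⟩ inf_le_right
      have hg : g ∈ M ⊔ Kb := hsup ▸ Subgroup.mem_top g
      rw [← SetLike.mem_coe, Subgroup.normal_mul] at hg
      obtain ⟨m, hm, k, hk, rfl⟩ := hg
      have h1 : k * u * k⁻¹ ∈ Subgroup.centralizer (M : Set (G ⧸ C0)) ⊓ Kb :=
        Subgroup.mem_inf.mpr ⟨(inferInstance : (Subgroup.centralizer (M : Set (G ⧸ C0))).Normal).conj_mem u hu.1 k,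
          Kb.mul_mem (Kb.mul_mem hk hu.2) (Kb.inv_mem hk)⟩
      show m * k * u * (m * k)⁻¹ ∈ Subgroup.centralizer (M : Set (G ⧸ C0)) ⊓ Kb
      rw [show m * k * u * (m * k)⁻¹ = m * (k * u * k⁻¹) * m⁻¹ by group,
        Subgroup.mem_centralizer_iff.mp h1.1 m hm, mul_inv_cancel_right]
      exact h1
    exact Subgroup.mem_bot.mp (this.le ⟨Subgroup.mem_centralizer_iff.mpr fun m hm => (hall m hm).symm, hx'K⟩)
  -- count
  have e1 : K.index = Nat.card M := by
    have h1 : Kb.index = K.index := Subgroup.index_map_eq _ (QuotientGroup.mk'_surjective C0)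
      (by rw [QuotientGroup.ker_mk']; exact hC0K)
    rw [← h1]
    have h2 : Nat.card (↥M × ↥Kb) = Nat.card (G ⧸ C0) := by
      refine Nat.card_congr (Equiv.ofBijective (fun u => (u.1 : G ⧸ C0) * u.2) ⟨?_, fun g => ?_⟩)
      · rintro ⟨m, k⟩ ⟨m', k'⟩ h
        have h3 : (m' : G ⧸ C0)⁻¹ * m = k' * (k : G ⧸ C0)⁻¹ := by
          rw [inv_mul_eq_iff_eq_mul, ← mul_assoc, eq_mul_inv_iff_mul_eq]; exact h
        have h4 : (m' : G ⧸ C0)⁻¹ * m ∈ M ⊓ Kb :=
          Subgroup.mem_inf.mpr ⟨mul_mem (inv_mem m'.2) m.2, h3 ▸ mul_mem k'.2 (inv_mem k.2)⟩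
        rw [hinf, Subgroup.mem_bot] at h4
        rw [h4, eq_comm, mul_inv_eq_one] at h3
        exact Prod.ext (Subtype.ext (inv_mul_eq_one.mp h4).symm) (Subtype.ext h3.symm)
      · have hg : g ∈ M ⊔ Kb := hsup ▸ Subgroup.mem_top g
        rw [← SetLike.mem_coe, Subgroup.normal_mul] at hg
        obtain ⟨m, hm, k, hk, rfl⟩ := hg
        exact ⟨(⟨m, hm⟩, ⟨k, hk⟩), rfl⟩
    rw [Nat.card_prod, ← Subgroup.index_mul_card Kb] at h2
    exact (Nat.eq_of_mul_eq_mul_right Nat.card_pos h2).symm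
  rw [e1]
  refine le_trans (Nat.mul_le_mul_left p ?_) (index_fix_ge M hMexp hMc hx'p hnonc)
  have hrep : ∀ g : G, ∃ m ∈ M, (π g)⁻¹ * π a * m ∈ Kb := by
    intro g
    have hg : (π a)⁻¹ * π g ∈ M ⊔ Kb := hsup ▸ Subgroup.mem_top _
    rw [← SetLike.mem_coe, Subgroup.normal_mul] at hg
    obtain ⟨m, hm, k, hk, hmk⟩ := hg
    refine ⟨m, hm, ?_⟩
    have : π g = π a * (m * k) := by
      rw [show m * k = (π a)⁻¹ * π g from hmk, mul_inv_cancel_left]
    rw [this, show (π a * (m * k))⁻¹ * π a * m = k⁻¹ by group]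
    exact inv_mem hk
  have hfix : ∀ (g : G) (m : G ⧸ C0), m ∈ M → (π g)⁻¹ * π a * m ∈ Kb →
      x • (QuotientGroup.mk g : G ⧸ K) = QuotientGroup.mk g → x' * m = m * x' := by
    intro g m hm hk hfx
    have h1 : g⁻¹ * (x * g) ∈ K := QuotientGroup.eq.mp hfx.symm
    have h2 := Subgroup.mem_map_of_mem π h1
    set k := (π g)⁻¹ * π a * m with hkdef
    have h3 : m⁻¹ * x' * m ∈ Kb := by
      have e : m⁻¹ * x' * m = k⁻¹ * π (g⁻¹ * (x * g)) * k := by
        rw [hkdef]; simp only [x', map_mul, map_inv]; group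
      rw [e]; exact mul_mem (mul_mem (inv_mem hk) h2) hk
    have h5 : x'⁻¹ * (m⁻¹ * x' * m) ∈ M ⊓ Kb := by
      refine Subgroup.mem_inf.mpr ⟨?_, mul_mem (inv_mem hx'K) h3⟩
      rw [show x'⁻¹ * (m⁻¹ * x' * m) = (x'⁻¹ * m⁻¹ * x') * m by group]
      have h6 := hM.normal.conj_mem _ (inv_mem hm) x'⁻¹
      rw [inv_inv] at h6
      exact mul_mem h6 hm
    rw [hinf, Subgroup.mem_bot, inv_mul_eq_one] at h5
    calc x' * m = m * (m⁻¹ * x' * m) := by group
      _ = m * x' := by rw [← h5]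
  refine Nat.card_le_card_of_injective
    (fun q : {q : G ⧸ K // x • q = q} =>
      (⟨(hrep q.1.out).choose, (hrep q.1.out).choose_spec.1,
        Subgroup.mem_centralizer_singleton_iff.mpr
          (hfix q.1.out _ (hrep q.1.out).choose_spec.1 (hrep q.1.out).choose_spec.2
            (by rw [QuotientGroup.out_eq']; exact q.2)).symm⟩ :
        ↥(M ⊓ Subgroup.centralizer ({x'} : Set (G ⧸ C0))))) ?_
  intro q q' h
  have h1 : (hrep q.1.out).choose = (hrep q'.1.out).choose :=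
    congrArg Subtype.val h
  have h2 := (hrep q.1.out).choose_spec.2
  have h3 := (hrep q'.1.out).choose_spec.2
  rw [← h1] at h3
  have h4 : π (q.1.out⁻¹ * q'.1.out) ∈ Kb := by
    have := mul_mem h2 (inv_mem h3)
    rw [map_mul, map_inv]
    have e : (π q.1.out)⁻¹ * π q'.1.out = ((π q.1.out)⁻¹ * π a * (hrep q.1.out).choose) *
        ((π q'.1.out)⁻¹ * π a * (hrep q.1.out).choose)⁻¹ := by group
    rw [e]; exact this
  refine Subtype.ext ?_
  rw [← QuotientGroup.out_eq' q.1, ← QuotientGroup.out_eq' q'.1]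
  exact QuotientGroup.eq.mpr ((hKmem _).mp h4)

end Cfsg.Agent.HalfFixed23
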