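import Cfsg.Agent.Lib.HalfFixed23.Blocks
import Mathlib.GroupTheory.SpecificGroups.Cyclic

/-!
# Normal abelian subgroups are central
-/

set_option autoImplicit false
set_option linter.unusedSectionVars false

namespace Cfsg.Agent.HalfFixed23

open RegOrbit23

variable {G V : Type*} [Group G] [Finite G] [CommGroup V] [Finite V] [MulDistribMulAction G V]

theorem HalfPair.card_torsion_le [Nontrivial V] {x y : G} {p : ℕ} [hp : Fact p.Prime] (hp5 : 5 ≤ p)
    (h : HalfPair G V x y p) {q : ℕ} [hq : Fact q.Prime] (E : Subgroup G) [hEn : E.Normal]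
    (hEab : ∀ a ∈ E, ∀ b ∈ E, a * b = b * a) (hEexp : ∀ a ∈ E, a ^ q = 1) : Nat.card E ≤ q := by
  classical
  by_cases hdvd : q ∣ Nat.card V
  · -- a normal group of the same characteristic acts trivially
    have hEq : IsPGroup q E := fun a => ⟨1, Subtype.ext (by simpa using hEexp a a.2)⟩
    have h1 : (1 : V) ∈ MulAction.fixedPoints E V := fun a => smul_one (a : G)
    obtain ⟨v, hv, hv1⟩ := hEq.exists_fixed_point_of_prime_dvd_card_of_fixed_point V hdvd h1
    have hX : fixedSub V (E : Set G) = ⊤ := by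
      refine (h.irr (fixedSub V (E : Set G)) (fun g w hw b hb => by
        have := hw _ (show g⁻¹ * b * g ∈ E by simpa using hEn.conj_mem b hb g⁻¹)
        rwa [mul_smul, mul_smul, inv_smul_eq_iff] at this)).resolve_left fun hb => hv1 ?_
      have hmem : v ∈ fixedSub V (E : Set G) := fun a ha => hv ⟨a, ha⟩
      exact (Subgroup.mem_bot.mp (hb ▸ hmem)).symm
    have hE : E = ⊥ := (Subgroup.eq_bot_iff_forall _).mpr fun a ha =>
      h.faith a fun w => (hX.ge (Subgroup.mem_top w) : w ∈ fixedSub V (E : Set G)) a ha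
    rw [hE, Subgroup.card_bot]
    exact hq.out.one_le
  · haveI := h.elementary hp5 E ((hq.out.coprime_iff_not_dvd.mpr hdvd).symm) hEab hEexp
    obtain ⟨g, hg⟩ := IsCyclic.exists_generator (α := E)
    have h2 : orderOf g = Nat.card E := orderOf_eq_card_of_forall_mem_zpowers hg
    rw [← h2]
    exact Nat.le_of_dvd hq.out.pos (orderOf_dvd_of_pow_eq_one (Subtype.ext (by simpa using hEexp g g.2)))

theorem HalfPair.abelian_isCyclic [Nontrivial V] {x y : G} {p : ℕ} [hp : Fact p.Prime] (hp5 : 5 ≤ p)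
    (h : HalfPair G V x y p) (A : Subgroup G) [hAn : A.Normal]
    (hAab : ∀ a ∈ A, ∀ b ∈ A, a * b = b * a) : IsCyclic A := by
  classical
  let tors : ℕ → Subgroup G := fun n =>
    { carrier := {a | a ∈ A ∧ a ^ n = 1}
      one_mem' := ⟨one_mem A, one_pow n⟩
      mul_mem' := fun {a b} ha hb => ⟨mul_mem ha.1 hb.1, by
        rw [(show Commute a b from hAab a ha.1 b hb.1).mul_pow, ha.2, hb.2, one_mul]⟩
      inv_mem' := fun {a} ha => ⟨inv_mem ha.1, by rw [inv_pow, ha.2, inv_one]⟩ }
  have htors : ∀ n, 0 < n → Nat.card (tors n) ≤ n := by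
    intro n
    induction n using Nat.strong_induction_on with
    | _ n ih =>
    intro hn
    rcases Nat.lt_or_ge n 2 with hn2 | hn2
    · obtain rfl : n = 1 := by omega
      have : tors 1 = ⊥ := (Subgroup.eq_bot_iff_forall _).mpr fun a ha => by simpa using ha.2
      rw [this, Subgroup.card_bot]
    · obtain ⟨q, hq, m, rfl⟩ := Nat.exists_prime_and_dvd (show n ≠ 1 by omega)
      haveI := Fact.mk hq
      have hm : 0 < m := Nat.pos_of_mul_pos_left hn
      have hker : Nat.card (tors q) ≤ q :=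
        @HalfPair.card_torsion_le G V _ _ _ _ _ _ x y p _ hp5 h q _ (tors q)
          ⟨fun a ha g => ⟨hAn.conj_mem a ha.1 g, by rw [conj_pow, ha.2]; group⟩⟩
          (fun a ha b hb => hAab a ha.1 b hb.1) (fun a ha => ha.2)
      let f : tors (q * m) →* tors q :=
        { toFun := fun a => ⟨(a : G) ^ m, pow_mem a.2.1 m, by
            rw [← pow_mul]
            exact (congrArg ((a : G) ^ ·) (Nat.mul_comm m q)).trans a.2.2⟩
          map_one' := Subtype.ext (one_pow m)
          map_mul' := fun a b => Subtype.ext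
            ((show Commute (a : G) b from hAab a a.2.1 b b.2.1).mul_pow m) }
      have h1 : Nat.card f.ker ≤ Nat.card (tors m) :=
        Nat.card_le_card_of_injective
          (fun a => (⟨((a : tors (q * m)) : G), (a : tors (q * m)).2.1,
            congrArg Subtype.val (MonoidHom.mem_ker.mp a.2)⟩ : tors m))
          (fun a b hab => Subtype.ext (Subtype.ext (congrArg Subtype.val hab :)))
      have hm' : m < q * m := lt_mul_of_one_lt_left hm hq.one_lt
      rw [← Subgroup.card_mul_index f.ker, Subgroup.index_ker]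
      refine le_trans ?_ (le_of_eq (mul_comm m q))
      exact Nat.mul_le_mul (h1.trans (ih m hm' hm)) ((Subgroup.card_le_card_group _).trans hker)
  letI : CommGroup A :=
    { (inferInstance : Group A) with mul_comm := fun a b => Subtype.ext (hAab a a.2 b b.2) }
  haveI := Fintype.ofFinite A
  refine isCyclic_of_card_pow_eq_one_le fun n hn => le_trans ?_ (htors n hn)
  rw [← Fintype.card_subtype, ← Nat.card_eq_fintype_card]
  exact Nat.card_le_card_of_injective
    (fun a => (⟨((a.1 : A) : G), a.1.2, congrArg Subtype.val a.2⟩ : tors n))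
    (fun a b hab => Subtype.ext (Subtype.ext (congrArg Subtype.val hab :)))

/-- Every normal abelian subgroup is central. -/
theorem HalfPair.abelian_le_center [Nontrivial V] {x y : G} {p : ℕ} [hp : Fact p.Prime] (hp5 : 5 ≤ p)
    (h : HalfPair G V x y p) (A : Subgroup G) [hAn : A.Normal]
    (hAab : ∀ a ∈ A, ∀ b ∈ A, a * b = b * a) : A ≤ Subgroup.center G := by
  classical
  haveI := h.abelian_isCyclic hp5 A hAab
  obtain ⟨⟨c, hcA⟩, hgen⟩ := IsCyclic.exists_generator (α := A)
  have hgen' : ∀ a ∈ A, a ∈ Subgroup.zpowers c := fun a ha => by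
    obtain ⟨i, hi⟩ := Subgroup.mem_zpowers_iff.mp (hgen ⟨a, ha⟩)
    exact ⟨i, congrArg Subtype.val hi⟩
  -- fixed point freeness
  have hfpf : ∀ d ∈ A, d ≠ 1 → ∀ v : V, d • v = v → v = 1 := by
    intro d hd hd1 v hv
    have hnorm : ∀ g : G, g⁻¹ * d * g ∈ Subgroup.zpowers d := by
      intro g
      obtain ⟨i, rfl⟩ := hgen' d hd
      obtain ⟨j, hj⟩ := hgen' (g⁻¹ * c * g) (by simpa using hAn.conj_mem c hcA g⁻¹)
      refine ⟨j, ?_⟩
      have e : g⁻¹ * c ^ i * g = (g⁻¹ * c * g) ^ i := by
        simpa using (conj_zpow (a := g⁻¹) (b := c) (i := i)).symm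
      show (c ^ i) ^ j = g⁻¹ * c ^ i * g
      rw [e, ← hj, ← zpow_mul, ← zpow_mul, mul_comm]
    rcases h.irr (fx V d) (fun g w hw => mem_fx.mpr (by
      have h1 : (g⁻¹ * d * g) • w = w :=
        Subgroup.zpowers_le.mpr (show d ∈ MulAction.stabilizer G w from mem_fx.mp hw) (hnorm g)
      rwa [mul_smul, mul_smul, inv_smul_eq_iff] at h1)) with h1 | h1
    · exact Subgroup.mem_bot.mp (h1 ▸ mem_fx.mpr hv)
    · exact absurd (h.faith d fun w => mem_fx.mp (h1.ge (Subgroup.mem_top w))) hd1
  by_contra hne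
  set K := Subgroup.centralizer (A : Set G) with hK
  have hxK : x ∉ K := by
    intro hxK
    haveI : K.Normal := inferInstance
    refine hne fun a ha => Subgroup.mem_center_iff.mpr fun g => ?_
    exact (Subgroup.mem_centralizer_iff.mp
      (show g ∈ K from (h.eq_top_of_mem K hxK).ge (Subgroup.mem_top g)) a ha).symm
  have hxc : x * c * x⁻¹ ≠ c := by
    intro e
    refine hxK (Subgroup.mem_centralizer_iff.mpr fun a ha => ?_)
    obtain ⟨i, rfl⟩ := hgen' a ha
    exact ((show Commute x c from mul_inv_eq_iff_eq_mul.mp e).zpow_right i).eq.symm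
  obtain ⟨c₁, hc₁⟩ : ∃ c₁, c₁ = x * c * x⁻¹ := ⟨_, rfl⟩
  rw [← hc₁] at hxc
  obtain ⟨c₂, hc₂⟩ : ∃ c₂, c₂ = x * c₁ * x⁻¹ := ⟨_, rfl⟩
  have hc₁A : c₁ ∈ A := hc₁ ▸ hAn.conj_mem c hcA x
  have hc₂A : c₂ ∈ A := hc₂ ▸ hAn.conj_mem _ hc₁A x
  have hc2ne : c₂ ≠ c := by
    intro e
    apply hxc
    have hcomm : Commute (x ^ 2) c := by
      rw [hc₂, hc₁] at e
      have : x ^ 2 * c * (x ^ 2)⁻¹ = c := by rw [sq]; simpa [mul_assoc] using e
      exact mul_inv_eq_iff_eq_mul.mp this
    obtain ⟨m, hm⟩ := exists_pow_eq_self_of_coprime (x := x) (n := 2)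
      (Nat.Coprime.coprime_dvd_right (orderOf_dvd_of_pow_eq_one h.pow)
        ((Nat.coprime_primes Nat.prime_two hp.out).mpr (by omega)))
    have h2 := hcomm.pow_left m
    rw [hm] at h2
    rw [hc₁, h2.eq, mul_inv_cancel_right]
  have hcomm : ∀ a ∈ A, ∀ b ∈ A, ∀ w : V, a • b • w = b • a • w := fun a ha b hb w => by
    rw [← mul_smul, ← mul_smul, hAab a ha b hb]
  have hx_c : ∀ w : V, x • w = w → x • c • w = c₁ • w := fun w hw => by
    conv_rhs => rw [← hw]
    rw [hc₁, mul_smul, mul_smul, inv_smul_smul]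
  have hx_c1 : ∀ w : V, x • w = w → x • c₁ • w = c₂ • w := fun w hw => by
    conv_rhs => rw [← hw]
    rw [hc₂, mul_smul, mul_smul, inv_smul_smul]
  have hD : ∀ w : V, c₁ • w = c • w → w = 1 := by
    intro w hw
    refine hfpf (c⁻¹ * c₁) (mul_mem (inv_mem hcA) hc₁A) (fun e => hxc (inv_mul_eq_one.mp e).symm) w ?_
    rw [mul_smul, hw, inv_smul_smul]
  let F := fx V x
  have hinj : Function.Injective
      (fun u : F × F × F => (u.1 : V) * c • (u.2.1 : V) * c • c • (u.2.2 : V)) := by
    let Φ : F × F × F →* V :=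
      { toFun := fun u => (u.1 : V) * c • (u.2.1 : V) * c • c • (u.2.2 : V)
        map_one' := by simp
        map_mul' := fun u w => by
          simp only [Prod.fst_mul, Prod.snd_mul, Subgroup.coe_mul, smul_mul']
          exact by ac_rfl }
    refine (injective_iff_map_eq_one Φ).mpr ?_
    rintro ⟨⟨a, ha⟩, ⟨b, hb⟩, ⟨e, he⟩⟩ hu
    have ha' := mem_fx.mp ha
    have hb' := mem_fx.mp hb
    have he' := mem_fx.mp he
    have h0 : a * c • b * c • c • e = 1 := hu
    have h1 : a * c₁ • b * c₁ • c₁ • e = 1 := by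
      have h2 := congrArg (fun w => x • w) h0
      simp only [smul_mul', smul_one, ha', hx_c b hb'] at h2
      rw [show x • c • c • e = (x * c * x⁻¹) • (x * c * x⁻¹) • e by
        conv_rhs => rw [← he']
        simp [mul_smul]] at h2
      rwa [← hc₁] at h2
    have h2 : c₁ • (b * (c₁ • e * c • e)) = c • (b * (c₁ • e * c • e)) := by
      simp only [smul_mul', hcomm c₁ hc₁A c hcA]
      have : c₁ • b * c₁ • c₁ • e = c • b * c • c • e :=
        mul_left_cancel (a := a) (by rw [← mul_assoc, ← mul_assoc, h1, h0])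
      calc c₁ • b * (c₁ • c₁ • e * c • c₁ • e) = (c₁ • b * c₁ • c₁ • e) * c • c₁ • e := by ac_rfl
        _ = (c • b * c • c • e) * c • c₁ • e := by rw [this]
        _ = c • b * (c • c₁ • e * c • c • e) := by ac_rfl
    have h3 : b * (c₁ • e * c • e) = 1 := hD _ h2
    have h4 : b * (c₂ • e * c₁ • e) = 1 := by
      have h5 := congrArg (fun w => x • w) h3
      simpa only [smul_mul', smul_one, hb', hx_c e he', hx_c1 e he'] using h5
    have h6 : c₂ • e = c • e := by
      have := h4.trans h3.symm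
      rw [mul_left_cancel_iff, mul_comm (c₁ • e), mul_left_inj] at this
      exact this
    have he1 : e = 1 := hfpf (c⁻¹ * c₂) (mul_mem (inv_mem hcA) hc₂A)
      (fun e' => hc2ne (inv_mul_eq_one.mp e').symm) e (by rw [mul_smul, h6, inv_smul_smul])
    subst he1
    simp only [smul_one, mul_one] at h3 h0
    subst h3
    simp only [smul_one, mul_one] at h0
    subst h0
    rfl
  have h1 := Nat.card_le_card_of_injective _ hinj
  rw [Nat.card_prod, Nat.card_prod, ← h.card_fix] at h1
  have h2 : Nat.card (fx V x) ≤ 1 := by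
    by_contra hlt
    push Not at hlt
    have h1' : Nat.card (fx V x) * (Nat.card (fx V x) * Nat.card (fx V x)) ≤
        Nat.card (fx V x) * Nat.card (fx V x) := h1
    have := Nat.le_of_mul_le_mul_left h1' (by omega)
    nlinarith
  have h3 : 2 ≤ Nat.card V := Finite.one_lt_card
  rw [← h.card_fix] at h3
  nlinarith

end Cfsg.Agent.HalfFixed23
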